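import Groth.Agent.Lib.LangWeil28.Scheme
import Groth.Agent.Lib.Zeta.Arith

/-!
# The abscissa of the zeta function of a scheme over a finite field
-/

set_option autoImplicit false
set_option linter.all false

universe u

open CategoryTheory CategoryTheory.Limits AlgebraicGeometry Filter
open scoped Classical Topology

namespace GrothLib.LangWeil28

variable {k : Type u} [Field k] [Finite k] {Y : Scheme.{u}} (f : Y ⟶ Spec (CommRingCat.of k))
  [LocallyOfFiniteType f] [QuasiCompact f]

theorem finite_cycles (d : ℕ) : Finite (Zeta.Cycles f d) := by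
  have hS := Zeta.finite_closedPts_le f d
  haveI := hS.to_subtype
  have hb : ∀ (α : Zeta.Cycles f d) (x : Y), x ∈ α.1.support →
      α.1 x ≤ d ∧ EGA4loc.residueDegree f x ≤ d := fun α x hx => by
    have h1 := Finset.single_le_sum (f := fun y => EGA4loc.residueDegree f y * α.1 y)
      (fun _ _ => Nat.zero_le _) hx
    have h2 : EGA4loc.residueDegree f x * α.1 x ≤ d := h1.trans α.2.2.le
    exact ⟨(Nat.le_mul_of_pos_left _ ((Zeta.residueDegree_pos_iff f x).mpr (α.2.1 x hx))).trans h2,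
      (Nat.le_mul_of_pos_right _ (Nat.pos_of_ne_zero (Finsupp.mem_support_iff.1 hx))).trans h2⟩
  refine Finite.of_injective (fun (α : Zeta.Cycles f d)
    (x : {x : Y | IsClosed ({x} : Set Y) ∧ EGA4loc.residueDegree f x ≤ d}) =>
      (⟨min (α.1 x.1) d, Nat.lt_succ_of_le (min_le_right _ _)⟩ : Fin (d + 1))) fun α β h => ?_
  refine Subtype.ext (Finsupp.ext fun x => ?_)
  by_cases hx : x ∈ α.1.support ∨ x ∈ β.1.support
  · have hxS : IsClosed ({x} : Set Y) ∧ EGA4loc.residueDegree f x ≤ d := by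
      rcases hx with hx | hx
      · exact ⟨α.2.1 x hx, (hb α x hx).2⟩
      · exact ⟨β.2.1 x hx, (hb β x hx).2⟩
    have hle : ∀ γ : Zeta.Cycles f d, γ.1 x ≤ d := fun γ => by
      by_cases hγ : x ∈ γ.1.support
      · exact (hb γ x hγ).1
      · rw [Finsupp.notMem_support_iff.1 hγ]; exact Nat.zero_le _
    have h' := congrArg Fin.val (congrFun h ⟨x, hxS⟩)
    simp only [min_eq_left (hle α), min_eq_left (hle β)] at h'
    exact h'
  · push Not at hx
    rw [Finsupp.notMem_support_iff.1 hx.1, Finsupp.notMem_support_iff.1 hx.2]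

theorem degCount_le_cycleNormCount (d : ℕ) (hd : 0 < d) :
    _root_.Zeta.degCount f d ≤ _root_.Zeta.cycleNormCount Y (Nat.card k ^ d) := by
  rw [Zeta.cycleNormCount_pow f d]
  haveI := finite_cycles f d
  refine Nat.card_le_card_of_injective (fun x => (⟨Finsupp.single x.1 1, fun y hy => by
    rw [Finset.mem_singleton.1 (Finsupp.support_single_subset hy)]; exact x.2.1, by
    rw [Finsupp.sum_single_index (by simp), mul_one, x.2.2]⟩ : Zeta.Cycles f d)) fun x y h => ?_
  exact Subtype.ext ((Finsupp.single_left_injective one_ne_zero) (congrArg Subtype.val h))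

theorem one_le_cycleNormCount {x : Y} (hx : IsClosed ({x} : Set Y)) (n : ℕ) :
    1 ≤ _root_.Zeta.cycleNormCount Y (Nat.card k ^ (EGA4loc.residueDegree f x * n)) := by
  rw [Zeta.cycleNormCount_pow f]
  haveI := finite_cycles f (EGA4loc.residueDegree f x * n)
  haveI : Nonempty (Zeta.Cycles f (EGA4loc.residueDegree f x * n)) :=
    ⟨⟨Finsupp.single x n, fun y hy => by
      rw [Finset.mem_singleton.1 (Finsupp.support_single_subset hy)]; exact hx,
      by rw [Finsupp.sum_single_index (by simp)]⟩⟩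
  exact Nat.card_pos

include f in
theorem not_summable (r : ℕ) (hr : topologicalKrullDim Y = r) (s : ℝ) (hs : s < r) :
    ¬ LSeriesSummable (_root_.Zeta.arithCoeff Y) (s : ℂ) := by
  intro hsum
  obtain ⟨⟨Z, hZ⟩, hpos, C, hC0, hC⟩ := exists_est_scheme f r hr
  set q : ℝ := (Nat.card k : ℝ) with hqdef
  have hq : (1 : ℝ) < q := Nat.one_lt_cast.2 (Finite.one_lt_card (α := k))
  have hq0 : (0 : ℝ) < q := by linarith
  have ht := hsum.tendsto_atTop_zero.norm
  rw [norm_zero] at ht
  obtain ⟨M, hM⟩ := ht.bddAbove_range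
  have hterm : ∀ d : ℕ, ‖LSeries.term (_root_.Zeta.arithCoeff Y) (s : ℂ) (Nat.card k ^ d)‖ =
      (_root_.Zeta.cycleNormCount Y (Nat.card k ^ d) : ℝ) / q ^ ((d : ℝ) * s) := fun d => by
    rw [LSeries.norm_term_eq, if_neg (pow_ne_zero _ Nat.card_pos.ne'), Complex.ofReal_re]
    simp only [_root_.Zeta.arithCoeff, Complex.norm_natCast, Nat.cast_pow]
    rw [← hqdef, ← Real.rpow_natCast q d, ← Real.rpow_mul hq0.le]
  -- many points in degrees divisible by the number of geometric components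
  set m := compCount f Z with hm
  have hm0 : 0 < m := hpos Z hZ
  have hlow : ∀ n : ℕ, 1 ≤ n → 2 * C ≤ Real.sqrt (q ^ (n * m)) →
      (q ^ (n * m * r)) / 2 ≤ (_root_.Zeta.nPts f (n * m) : ℝ) := by
    intro n hn hC'
    have he : 1 ≤ n * m := Nat.mul_pos hn hm0
    have h1 := (abs_le.1 (hC (n * m) he).1).1
    have hL : (1 : ℝ) ≤ (leading f r (n * m) : ℕ) := by
      refine Nat.one_le_cast.2 ((hpos Z hZ).trans_le ?_)
      exact Finset.single_le_sum (f := fun Z => compCount f Z) (fun _ _ => Nat.zero_le _)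
        (Finset.mem_filter.2 ⟨hZ, Dvd.intro_left n rfl⟩)
    have hs0 : 0 < Real.sqrt (q ^ (n * m)) := by positivity
    have hA : C * (q ^ (n * m * r) / Real.sqrt (q ^ (n * m))) ≤ q ^ (n * m * r) / 2 := by
      rw [mul_div_assoc', div_le_iff₀ hs0]
      have : 0 ≤ q ^ (n * m * r) := by positivity
      nlinarith
    have : q ^ (n * m * r) ≤ ((leading f r (n * m) : ℕ) : ℝ) * q ^ (n * m * r) :=
      le_mul_of_one_le_left (by positivity) hL
    linarith
  obtain ⟨n₀, hn₀⟩ : ∃ n₀ : ℕ, ∀ n, n₀ ≤ n → 2 * C ≤ Real.sqrt (q ^ (n * m)) := by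
    obtain ⟨n₀, hn₀⟩ := pow_unbounded_of_one_lt ((2 * C) ^ 2) hq
    refine ⟨n₀, fun n hn => Real.le_sqrt_of_sq_le (hn₀.le.trans (pow_le_pow_right₀ hq.le ?_))⟩
    exact hn.trans (Nat.le_mul_of_pos_right n hm0)
  rcases lt_or_ge s 0 with hs0 | hs0
  · -- a single closed point gives infinitely many terms of norm at least one
    obtain ⟨n, hn⟩ : ∃ n, n₀ ≤ n ∧ 1 ≤ n := ⟨max n₀ 1, le_max_left _ _, le_max_right _ _⟩
    have hN := hlow n hn.2 (hn₀ n hn.1)
    have hN' : _root_.Zeta.nPts f (n * m) ≠ 0 := fun h0 => by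
      rw [h0, Nat.cast_zero] at hN
      have : (0 : ℝ) < q ^ (n * m * r) := by positivity
      linarith
    obtain ⟨d, -, hd⟩ := Finset.exists_ne_zero_of_sum_ne_zero hN'
    have hd' : Nonempty {x : Y // IsClosed ({x} : Set Y) ∧ EGA4loc.residueDegree f x = d} :=
      (Nat.card_ne_zero.1 (right_ne_zero_of_mul hd)).1
    obtain ⟨x, hx, -⟩ := hd'
    have hdeg := (Zeta.residueDegree_pos_iff f x).mpr hx
    have hge : ∀ j, (1 : ℝ) ≤ ‖LSeries.term (_root_.Zeta.arithCoeff Y) (s : ℂ)
        (Nat.card k ^ (EGA4loc.residueDegree f x * j))‖ := fun j => by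
      rw [hterm, le_div_iff₀ (by positivity), one_mul]
      exact (Real.rpow_le_one_of_one_le_of_nonpos hq.le
        (mul_nonpos_of_nonneg_of_nonpos (Nat.cast_nonneg _) hs0.le)).trans
        (Nat.one_le_cast.2 (one_le_cycleNormCount f hx j))
    have hto : Tendsto (fun j : ℕ => Nat.card k ^ (EGA4loc.residueDegree f x * j)) atTop atTop :=
      (tendsto_pow_atTop_atTop_of_one_lt Finite.one_lt_card).comp
        (tendsto_id.const_mul_atTop' hdeg)
    have := le_of_tendsto_of_tendsto' tendsto_const_nhds (ht.comp hto) hge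
    linarith
  · -- growth
    have hdeg : ∀ e d : ℕ, d ∣ e → 0 < e →
        (_root_.Zeta.degCount f d : ℝ) ≤ max M 0 * q ^ ((e : ℝ) * s) := by
      intro e d hde he
      have hd0 : 0 < d := Nat.pos_of_dvd_of_pos hde he
      have h1 := hM ⟨_, rfl⟩ (a := ‖LSeries.term (_root_.Zeta.arithCoeff Y) (s : ℂ) (Nat.card k ^ d)‖)
      rw [hterm, div_le_iff₀ (by positivity)] at h1
      refine (Nat.cast_le.2 (degCount_le_cycleNormCount f d hd0)).trans (h1.trans ?_)
      refine mul_le_mul (le_max_left _ _) ?_ (by positivity) (le_max_right _ _)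
      exact Real.rpow_le_rpow_of_exponent_le hq.le
        (mul_le_mul_of_nonneg_right (Nat.cast_le.2 (Nat.le_of_dvd he hde)) hs0)
    set ρ : ℝ := q ^ s / q ^ (r : ℝ) with hρ
    have hρ0 : 0 ≤ ρ := by positivity
    have hρ1 : ρ < 1 := by
      rw [hρ, div_lt_one (by positivity)]
      exact Real.rpow_lt_rpow_of_exponent_lt hq hs
    have hev : ∀ᶠ e : ℕ in atTop, max M 0 * ((e : ℝ) ^ 2 * ρ ^ e) < 1 / 2 := by
      have := (tendsto_pow_const_mul_const_pow_of_lt_one 2 hρ0 hρ1).const_mul (max M 0)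
      rw [mul_zero] at this
      exact this.eventually (eventually_lt_nhds (by norm_num))
    obtain ⟨N, hN⟩ := eventually_atTop.1 hev
    set n := max (max n₀ N) 1 with hn
    have he0 : 0 < n * m := Nat.mul_pos (lt_of_lt_of_le Nat.zero_lt_one (le_max_right _ _)) hm0
    have hA := hlow n (le_max_right _ _) (hn₀ n ((le_max_left _ _).trans (le_max_left _ _)))
    have hB := hN (n * m) (((le_max_right _ _).trans (le_max_left _ _)).trans (Nat.le_mul_of_pos_right n hm0))
    set e := n * m with he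
    have hup : (_root_.Zeta.nPts f e : ℝ) ≤ max M 0 * ((e : ℝ) ^ 2 * q ^ ((e : ℝ) * s)) := by
      rw [_root_.Zeta.nPts]
      push_cast
      refine (Finset.sum_le_sum (g := fun _ => (e : ℝ) * (max M 0 * q ^ ((e : ℝ) * s))) fun d hd => ?_).trans ?_
      · have hd' := Nat.mem_divisors.1 hd
        exact mul_le_mul (Nat.cast_le.2 (Nat.le_of_dvd he0 hd'.1)) (hdeg e d hd'.1 he0) (Nat.cast_nonneg _)
          (Nat.cast_nonneg _)
      · rw [Finset.sum_const, nsmul_eq_mul]
        have : (e.divisors.card : ℝ) ≤ e := Nat.cast_le.2 (Nat.card_divisors_le_self e)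
        calc (e.divisors.card : ℝ) * ((e : ℝ) * (max M 0 * q ^ ((e : ℝ) * s)))
            ≤ (e : ℝ) * ((e : ℝ) * (max M 0 * q ^ ((e : ℝ) * s))) :=
              mul_le_mul_of_nonneg_right this (by positivity)
          _ = max M 0 * ((e : ℝ) ^ 2 * q ^ ((e : ℝ) * s)) := by ring
    have hρe : ρ ^ e * q ^ (e * r) = q ^ ((e : ℝ) * s) := by
      rw [hρ, div_pow, ← Real.rpow_natCast (q ^ s) e, ← Real.rpow_mul hq0.le, ← Real.rpow_natCast (q ^ (r : ℝ)) e,
        ← Real.rpow_mul hq0.le, ← Real.rpow_natCast q (e * r), show ((e * r : ℕ) : ℝ) = (e : ℝ) * (r : ℝ) from Nat.cast_mul e r, mul_comm s, mul_comm (r : ℝ),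
        div_mul_cancel₀ _ (by positivity)]
    rw [← hρe] at hup
    have hqe : (0 : ℝ) < q ^ (e * r) := by positivity
    nlinarith

include f in
theorem abscissa_eq (r : ℕ) (hr : topologicalKrullDim Y = r) :
    LSeries.abscissaOfAbsConv (_root_.Zeta.arithCoeff Y) = (r : ℝ) := by
  refine le_antisymm (LSeries.abscissaOfAbsConv_le_of_forall_lt_LSeriesSummable fun y hy =>
    (Zeta.summable_and_ne_zero f r hr.le (y : ℂ) (by simpa using hy)).1) (le_of_not_gt fun hlt => ?_)
  obtain ⟨s, hs1, hs2⟩ := EReal.exists_between_coe_real hlt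
  exact not_summable f r hr s (EReal.coe_lt_coe_iff.1 hs2)
    (LSeriesSummable_of_abscissaOfAbsConv_lt_re (by simpa using hs1))

end GrothLib.LangWeil28
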