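import Groth.Agent.Lib.LangWeil28.Main
import Groth.Agent.Lib.FieldExtra.Insep
import Groth.Agent.Lib.Dim.Ring
import Mathlib.FieldTheory.Finite.GaloisField

/-!
# The point count of a domain of finite type over a finite field
-/

set_option autoImplicit false
set_option linter.all false
set_option backward.isDefEq.respectTransparency false

universe u

open scoped Classical

namespace GrothLib.LangWeil28

theorem inv'_restrictScalars {k K L : Type u} [CommRing k] [CommRing K] [Field L] [Algebra k K] [Algebra k L]
    [Algebra K L] [IsScalarTower k K L] (B : Subalgebra K L) (h : L) :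
    (inv' B h).restrictScalars k = inv' (B.restrictScalars k) h := by
  refine le_antisymm (fun z hz => ?_) ?_
  · have hz' : z ∈ inv' B h := hz
    clear hz
    induction hz' using Algebra.adjoin_induction with
    | mem z hz =>
      rcases hz with rfl | hz
      · exact inv_mem_inv' _ _
      · exact le_inv' (B.restrictScalars k) h hz
    | algebraMap c => exact le_inv' (B.restrictScalars k) h (B.algebraMap_mem c)
    | add a b ha hb iha ihb => exact add_mem iha ihb
    | mul a b ha hb iha ihb => exact mul_mem iha ihb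
  · exact inv'_le (fun z hz => le_inv' B h hz) (inv_mem_inv' B h)

theorem algebraicClosure_eq_separableClosure (k L : Type u) [Field k] [PerfectField k] [Field L] [Algebra k L] :
    separableClosure k L = algebraicClosure k L := by
  refine IntermediateField.ext fun x => ?_
  rw [mem_separableClosure_iff, mem_algebraicClosure_iff]
  exact ⟨fun h => h.isIntegral.isAlgebraic, fun h => PerfectField.separable_of_irreducible (minpoly.irreducible h.isIntegral)⟩

/-- Counting homomorphisms into a field along an intermediate field of constants. -/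
theorem natCard_algHom_restrictScalars {k K L : Type u} [Field k] [Field K] [Field L] [Algebra k K] [Algebra k L]
    [Algebra K L] [IsScalarTower k K L] [FiniteDimensional k K] (C : Subalgebra K L) (hC : C.FG)
    (F : Type u) [Field F] [Algebra k F] [Finite F] :
    (Nat.card (C.restrictScalars k →ₐ[k] F) : ℝ) =
      ∑ ι : K →ₐ[k] F, (Nat.card (@AlgHom K C F _ _ _ _ ι.toRingHom.toAlgebra) : ℝ) := by
  haveI : Algebra.FiniteType K C := C.fg_iff_finiteType.1 hC
  haveI : Finite (K →ₐ[k] F) := finite_algHom
  haveI hfin : ∀ ι : K →ₐ[k] F, Finite (@AlgHom K C F _ _ _ _ ι.toRingHom.toAlgebra) := fun ι => by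
    letI : Algebra K F := ι.toRingHom.toAlgebra
    exact finite_algHom
  rw [← Nat.cast_sum, ← Nat.card_sigma]
  congr 1
  refine Nat.card_congr ?_
  let R : (C.restrictScalars k →ₐ[k] F) → (K →ₐ[k] F) := fun φ =>
    { toRingHom := φ.toRingHom.comp (algebraMap K C)
      commutes' := fun c => (congrArg φ (Subtype.ext (by
        show algebraMap K L (algebraMap k K c) = algebraMap k L c
        rw [← IsScalarTower.algebraMap_apply]))).trans (φ.commutes c) }
  exact
  { toFun := fun φ => ⟨R φ, @AlgHom.mk K C F _ _ _ _ (R φ).toRingHom.toAlgebra φ.toRingHom (fun c => rfl)⟩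
    invFun := fun p =>
      { toRingHom := (@AlgHom.toRingHom K C F _ _ _ _ p.1.toRingHom.toAlgebra p.2)
        commutes' := fun c => by
          refine Eq.trans ?_ (p.1.commutes c)
          refine Eq.trans ?_ (@AlgHom.commutes K C F _ _ _ _ p.1.toRingHom.toAlgebra p.2 (algebraMap k K c))
          refine congrArg p.2 (Subtype.ext ?_)
          show algebraMap k L c = algebraMap K L (algebraMap k K c)
          rw [← IsScalarTower.algebraMap_apply] }
    left_inv := fun φ => rfl
    right_inv := fun p => by
      obtain ⟨ι, ψ⟩ := p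
      refine Sigma.ext ?_ ?_
      · exact AlgHom.ext fun c => @AlgHom.commutes K C F _ _ _ _ ι.toRingHom.toAlgebra ψ c
      · have e : ∀ (ι' : K →ₐ[k] F) (ψ' : @AlgHom K C F _ _ _ _ ι'.toRingHom.toAlgebra), ι' = ι →
            (@AlgHom.toRingHom K C F _ _ _ _ ι'.toRingHom.toAlgebra ψ') =
              (@AlgHom.toRingHom K C F _ _ _ _ ι.toRingHom.toAlgebra ψ) → HEq ψ' ψ := by
          rintro ι' ψ' rfl h
          exact heq_of_eq (@AlgHom.coe_ringHom_injective K C F _ _ _ _ ι'.toRingHom.toAlgebra ψ' ψ h)
        exact e _ _ (AlgHom.ext fun c => @AlgHom.commutes K C F _ _ _ _ ι.toRingHom.toAlgebra ψ c) rfl }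

/-- Lang–Weil for a domain of finite type over a finite field, after shrinking. -/
theorem exists_est_domain {k : Type u} [Field k] [Finite k] (A : Type u) [CommRing A] [IsDomain A] [Algebra k A]
    [Algebra.FiniteType k A] (L : Type u) [Field L] [Algebra A L] [IsFractionRing A L] [Algebra k L]
    [IsScalarTower k A L] (r : ℕ) (hr : ringKrullDim A = r) :
    0 < Module.finrank k (separableClosure k L) ∧
    ∃ g : A, g ≠ 0 ∧ ∃ C : ℝ, 0 ≤ C ∧ ∀ (F : Type u) [Field F] [Finite F] [Algebra k F],
      (¬ Module.finrank k (separableClosure k L) ∣ Module.finrank k F → Nat.card {φ : A →ₐ[k] F // φ g ≠ 0} = 0) ∧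
      (Module.finrank k (separableClosure k L) ∣ Module.finrank k F →
        |(Nat.card {φ : A →ₐ[k] F // φ g ≠ 0} : ℝ) -
            (Module.finrank k (separableClosure k L) : ℝ) * (Nat.card F : ℝ) ^ r| ≤
          C * ((Nat.card F : ℝ) ^ r / Real.sqrt (Nat.card F))) := by
  haveI : Algebra.EssFiniteType k L :=
    haveI : Algebra.EssFiniteType A L := Algebra.EssFiniteType.of_isLocalization L (nonZeroDivisors A)
    Algebra.EssFiniteType.comp k A L
  haveI hfd : FiniteDimensional k (algebraicClosure k L) :=
    FieldExtra.finiteDimensional_algebraicClosure (IntermediateField.fg_top k L)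
  rw [algebraicClosure_eq_separableClosure]
  refine ⟨Module.finrank_pos, ?_⟩
  let K := algebraicClosure k L
  haveI : Finite K := Module.finite_of_finite k
  -- the models
  obtain ⟨T, hT⟩ := (inferInstance : Algebra.FiniteType k A).out
  let R : Subalgebra k L := (IsScalarTower.toAlgHom k A L).range
  have hRT : R = Algebra.adjoin k ((T.image (algebraMap A L) : Finset L) : Set L) := by
    rw [Finset.coe_image, show (algebraMap A L : A → L) = IsScalarTower.toAlgHom k A L from rfl,
      ← AlgHom.map_adjoin, hT, Algebra.map_top]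
  have hR : R.FG := ⟨_, hRT.symm⟩
  have hR' : Gen R := fun z => by
    obtain ⟨a, b, hb, rfl⟩ := IsFractionRing.div_surjective A z
    exact ⟨_, ⟨a, rfl⟩, _, ⟨b, rfl⟩, IsFractionRing.to_map_ne_zero_of_mem_nonZeroDivisors hb, rfl⟩
  let B0 : Subalgebra K L := Algebra.adjoin K ((T.image (algebraMap A L) : Finset L) : Set L)
  have hle : R ≤ B0.restrictScalars k := by
    rw [hRT]; exact Algebra.adjoin_le fun z hz => Algebra.subset_adjoin (R := K) hz
  have hB0 : B0.FG := ⟨_, rfl⟩
  have hB0' : Gen B0 := fun z => by
    obtain ⟨a, ha, b, hb, hb0, e⟩ := hR' z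
    exact ⟨a, hle ha, b, hle hb, hb0, e⟩
  have hBk' : Gen (B0.restrictScalars k) := fun z => hB0' z
  have hBk : (B0.restrictScalars k).FG := by
    rw [← Subalgebra.fg_top]
    have : Algebra.FiniteType k B0 := by
      haveI : Algebra.FiniteType K B0 := B0.fg_iff_finiteType.1 hB0
      exact Algebra.FiniteType.trans (S := K) inferInstance inferInstance
    exact this.out
  obtain ⟨g1, hg1, g10, h1, hh1, h10, he1⟩ := exists_common hR hR' hBk hBk'
  -- transcendence degree
  have htr : Algebra.trdeg K L = r := by
    obtain ⟨n, hn, hn'⟩ := Dim.exists_nat_trdeg_eq_and_ringKrullDim_eq k A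
    have hnr : n = r := by rw [hn'] at hr; exact_mod_cast hr
    haveI : Algebra.IsAlgebraic A L := IsLocalization.isAlgebraic L (nonZeroDivisors A)
    have hL : Algebra.trdeg k L = r := by
      have := trdeg_add_eq k A (A := L)
      rw [hn, trdeg_eq_zero (R := A) (A := L), add_zero, hnr] at this
      exact this.symm
    have := trdeg_add_eq k K (A := L)
    rw [trdeg_eq_zero (R := k) (A := K), zero_add] at this
    exact this.trans hL
  haveI : Algebra.EssFiniteType K L := Algebra.EssFiniteType.of_comp k K L
  have hc : ∀ z : L, IsAlgebraic K z → z ∈ Set.range (algebraMap K L) := fun z hz =>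
    ⟨⟨z, mem_algebraicClosure_iff.2 (hz.restrictScalars k)⟩, rfl⟩
  obtain ⟨e, he, e0, s, hs0, C, hC⟩ := est (S := K) K Function.injective_id
    (fun c => ⟨c, 1, by simp, by simp⟩) r L htr hc (inv' B0 h1) (fg_inv' hB0 h1) (hB0'.mono (le_inv' B0 h1))
  have he' : e ∈ inv' R g1 := by rw [he1, ← inv'_restrictScalars]; exact he
  obtain ⟨g, ⟨g₀, rfl⟩, g0, heq⟩ := exists_inv'_inv' hg1 g10 he' e0
  change IsScalarTower.toAlgHom k A L g₀ ≠ 0 at g0
  change inv' (inv' R g1) e = inv' R (IsScalarTower.toAlgHom k A L g₀) at heq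
  refine ⟨g₀, fun h => g0 (by rw [h, map_zero]), (Module.finrank k K : ℝ) * |C|, by positivity, fun F _ _ _ => ?_⟩
  -- translate the homomorphisms
  have hinj : Function.Injective (IsScalarTower.toAlgHom k A L) := IsFractionRing.injective A L
  let eA : A ≃ₐ[k] R := AlgEquiv.ofInjective _ hinj
  have hcard : Nat.card {φ : A →ₐ[k] F // φ g₀ ≠ 0} =
      Nat.card ((inv' (inv' B0 h1) e).restrictScalars k →ₐ[k] F) := by
    rw [inv'_restrictScalars, inv'_restrictScalars, ← he1, heq,
      Nat.card_congr (Equiv.ofBijective _ (bijective_restrict (F := F) (B := R) (h := IsScalarTower.toAlgHom k A L g₀) ⟨g₀, rfl⟩ g0))]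
    exact Nat.card_congr
      { toFun := fun φ => ⟨φ.1.comp eA.symm.toAlgHom, by
          show φ.1 (eA.symm (eA g₀)) ≠ 0
          rw [AlgEquiv.symm_apply_apply]
          exact φ.2⟩
        invFun := fun ψ => ⟨ψ.1.comp eA.toAlgHom, ψ.2⟩
        left_inv := fun φ => Subtype.ext (AlgHom.ext fun a => by simp)
        right_inv := fun ψ => Subtype.ext (AlgHom.ext fun a => by simp) }
  have hsum := natCard_algHom_restrictScalars (k := k) (inv' (inv' B0 h1) e) (fg_inv' (fg_inv' hB0 h1) e) F
  rw [hcard, ← @Nat.cast_eq_zero ℝ, hsum]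
  refine ⟨fun hnd => ?_, fun hd => ?_⟩
  · haveI : IsEmpty (K →ₐ[k] F) := ⟨fun ι => hnd (by
      letI : Algebra K F := ι.toRingHom.toAlgebra
      haveI : IsScalarTower k K F := IsScalarTower.of_algebraMap_eq fun c => (ι.commutes c).symm
      exact ⟨Module.finrank K F, (Module.finrank_mul_finrank k K F).symm⟩)⟩
    simp
  · have hcardK : Fintype.card (K →ₐ[k] F) = Module.finrank k K := by
      rw [← Nat.card_eq_fintype_card, FiniteField.natCard_algHom_of_finrank_dvd hd]
    rw [show (Module.finrank k K : ℝ) * (Nat.card F : ℝ) ^ r = ∑ ι : K →ₐ[k] F, (Nat.card F : ℝ) ^ r by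
      rw [Finset.sum_const, Finset.card_univ, hcardK, nsmul_eq_mul], ← Finset.sum_sub_distrib]
    refine (Finset.abs_sum_le_sum_abs _ _).trans ?_
    refine (Finset.sum_le_sum (g := fun _ => |C| * ((Nat.card F : ℝ) ^ r / Real.sqrt (Nat.card F))) fun ι _ => ?_).trans ?_
    · letI : Algebra K F := ι.toRingHom.toAlgebra
      exact (hC F ((_root_.map_ne_zero _).2 hs0)).trans (mul_le_mul_of_nonneg_right (le_abs_self C) (by positivity))
    · rw [Finset.sum_const, Finset.card_univ, hcardK, nsmul_eq_mul, mul_assoc]

end GrothLib.LangWeil28
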