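import Groth.Agent.Lib.FunFld.RH.Main
import Groth.Agent.Lib.FunFld.AbsIrred
import Groth.Agent.Lib.FunFld.PlacePoint
import Mathlib.RingTheory.UniqueFactorizationDomain.NormalizedFactors
import Mathlib.FieldTheory.IsAlgClosed.AlgebraicClosure

/-!
# Points on an absolutely irreducible plane curve over a finite field
-/

set_option autoImplicit false
set_option linter.all false

universe u

namespace GrothLib.LangWeil28

open _root_.FunFld GrothLib.FunFld Polynomial Polynomial.Bivariate WithZero
open IntermediateField (adjoin)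

variable {k K : Type u} [Field k] [Field K] [Algebra k K]

section Genus

variable {x y : K} {f : k[X][Y]} {D : ℕ}

theorem finrank_le (hx : Transcendental k x) (hgen : adjoin k ({x, y} : Set K) = ⊤) (hf : f ≠ 0)
    (hxy : aevalAeval x y f = 0) :
    Module.finrank (adjoin k ({x} : Set K)) K ≤ f.natDegree := by
  have h0 : f.map (toAdjoin (k := k) x).toRingHom ≠ 0 :=
    (Polynomial.map_ne_zero_iff (toAdjoin_injective hx)).2 hf
  have hev : aeval y (f.map (toAdjoin (k := k) x).toRingHom) = 0 := by rw [aeval_map_toAdjoin, hxy]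
  have hint : IsIntegral (adjoin k ({x} : Set K)) y := IsAlgebraic.isIntegral ⟨_, h0, hev⟩
  have h1 := IntermediateField.adjoin.finrank hint
  rw [adjoin_simple_over_eq_top hgen, IntermediateField.finrank_top'] at h1
  rw [h1]
  exact (natDegree_le_of_dvd (minpoly.dvd _ _ hev) h0).trans natDegree_map_le

theorem val_aeval_le_pow (P : Place k K) (x : K) (p : k[X]) {d : ℕ} (hd : p.natDegree ≤ d) :
    val P (aeval x p) ≤ max 1 (val P x) ^ d := by
  rw [aeval_eq_sum_range' (Nat.lt_succ_of_le hd)]
  refine (val P).map_sum_le fun i hi => ?_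
  rw [Algebra.smul_def, map_mul, map_pow]
  calc val P (algebraMap k K (p.coeff i)) * val P x ^ i ≤ 1 * max 1 (val P x) ^ i :=
        mul_le_mul' (P.2.1 _) (pow_le_pow_left' (le_max_right _ _) i)
    _ ≤ max 1 (val P x) ^ d := by
        rw [one_mul]
        exact pow_le_pow_right' (le_max_left _ _) (Nat.le_of_lt_succ (Finset.mem_range.1 hi))

/-- `lead(x) · y` has no poles outside the poles of `x`, and bounded ones there. -/
theorem val_lead_mul_le (P : Place k K) (hn : 0 < f.natDegree) (hD : ∀ j, (f.coeff j).natDegree ≤ D)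
    (hxy : aevalAeval x y f = 0) (hl : aeval x f.leadingCoeff ≠ 0) :
    val P (aeval x f.leadingCoeff * y) ≤ max 1 (val P x) ^ D := by
  by_contra hcon
  push Not at hcon
  set l := aeval x f.leadingCoeff with hldef
  set M := max 1 (val P x) with hM
  have hM1 : (1 : WithZero (Multiplicative ℤ)) ≤ M := le_max_left _ _
  have hz1 : (1 : WithZero (Multiplicative ℤ)) ≤ val P (l * y) := (one_le_pow₀ hM1).trans hcon.le
  have hlM : val P l ≤ M ^ D := val_aeval_le_pow P x _ (hD _)
  have hl0 : 0 < val P l := zero_lt_iff.2 ((val P).ne_zero_iff.2 hl)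
  obtain ⟨n, hn'⟩ : ∃ n, f.natDegree = n + 1 := ⟨f.natDegree - 1, by omega⟩
  have hterm : ∀ j < n + 1, val P (aeval x (f.coeff j) * y ^ j) < val P (l * y ^ (n + 1)) := by
    intro j hj
    obtain ⟨i, hi⟩ : ∃ i, n + 1 = j + (i + 1) := ⟨n - j, by omega⟩
    rw [map_mul, map_mul, map_pow, map_pow, hi]
    have h1 : val P (aeval x (f.coeff j)) * val P l ^ i < (val P l * val P y) ^ (i + 1) := by
      calc val P (aeval x (f.coeff j)) * val P l ^ i ≤ M ^ D * (M ^ D) ^ i :=
            mul_le_mul' (val_aeval_le_pow P x _ (hD j)) (pow_le_pow_left' hlM i)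
        _ = (M ^ D) ^ (i + 1) := (pow_succ' _ _).symm
        _ < _ := by
            rw [← map_mul]
            exact pow_lt_pow_left₀ hcon zero_le (by omega)
    have h2 : val P (aeval x (f.coeff j)) < val P l * val P y ^ (i + 1) := by
      refine lt_of_mul_lt_mul_right (a := val P l ^ i) ?_ zero_le
      refine h1.trans_le (le_of_eq ?_)
      rw [mul_pow, pow_succ (val P l) i]
      ac_rfl
    have hy0 : 0 < val P y := by
      refine zero_lt_iff.2 fun h0 => ?_
      rw [map_mul, h0, mul_zero] at hz1
      exact not_le.2 zero_lt_one hz1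
    calc val P (aeval x (f.coeff j)) * val P y ^ j < val P l * val P y ^ (i + 1) * val P y ^ j :=
          mul_lt_mul_of_pos_right h2 (pow_pos hy0 j)
      _ = val P l * val P y ^ (j + (i + 1)) := by rw [pow_add (val P y) j (i + 1), mul_assoc, mul_comm (val P y ^ (i + 1))]
  have hsum : ∑ j ∈ Finset.range (n + 1), aeval x (f.coeff j) * y ^ j + l * y ^ (n + 1) = 0 := by
    have h : aevalAeval x y f =
        ∑ j ∈ Finset.range (n + 1 + 1), aeval x (f.coeff j) * y ^ j := by
      conv_lhs => rw [f.as_sum_range_C_mul_X_pow, hn']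
      simp [map_sum]
    rw [hxy, Finset.sum_range_succ, ← hn', Polynomial.coeff_natDegree] at h
    rw [← hn', ← h]
  have hne : val P (l * y ^ (n + 1)) ≠ 0 :=
    ne_of_gt (lt_of_le_of_lt zero_le (hterm 0 (Nat.succ_pos _)))
  have hlt := Valuation.map_sum_lt (val P) hne fun j hj => hterm j (Finset.mem_range.1 hj)
  rw [eq_neg_of_add_eq_zero_left hsum, Valuation.map_neg] at hlt
  exact lt_irrefl _ hlt

theorem delta_le_of_ell (h : IsFG k K) {x : K} (hx : Transcendental k x) (C : Divisor k K) (hC0 : 0 ≤ C)
    (hC : ∀ l : ℕ, Module.finrank (adjoin k ({x} : Set K)) K * (l + 1) ≤ ell (l • poleDiv (k := k) x + C))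
    (D : Divisor k K) : delta D ≤ C.deg + 1 - Module.finrank (adjoin k ({x} : Set K)) K := by
  classical
  set B := poleDiv (k := k) x
  set n : ℕ := Module.finrank (adjoin k ({x} : Set K)) K with hn
  have hn1 : 0 < n := by
    have := h.finiteDimensional_adjoin hx
    exact Module.finrank_pos
  have hB : B.deg = n := h.deg_poleDiv hx
  have hlB : ∀ l : ℕ, delta (l • B) ≤ C.deg + 1 - n := fun l => by
    refine (h.delta_mono (le_add_of_nonneg_right hC0 : l • B ≤ l • B + C)).trans ?_
    have h2 : ((n * (l + 1) : ℕ) : ℤ) ≤ ell (l • B + C) := by exact_mod_cast hC l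
    simp only [delta, deg_add, deg_nsmul, hB]
    push_cast at h2
    nlinarith
  let D' := D ⊔ 0
  let l := (D'.deg + (C.deg + 1 - n)).toNat
  obtain ⟨z, hz0, -, hz⟩ := h.exists_of_ell_pos (D := l • B - D') (by
    have h1 := hlB l
    have h2 := h.ell_sub_ell_le (sub_le_self _ le_sup_right : l • B - D' ≤ l • B)
    simp only [delta, deg_sub, deg_nsmul, hB] at h1 h2
    have h3 := Int.self_le_toNat (D'.deg + (C.deg + 1 - n))
    nlinarith)
  calc delta D ≤ delta D' := h.delta_mono le_sup_left
    _ ≤ delta (l • B + div k z) := h.delta_mono (fun P => by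
        have := hz P; simp at this ⊢; omega)
    _ = delta (l • B) := h.delta_add_div _ hz0
    _ ≤ _ := hlB l

theorem genus_le (hx : Transcendental k x) (hgen : adjoin k ({x, y} : Set K) = ⊤) (hn : 0 < f.natDegree)
    (hD : ∀ j, (f.coeff j).natDegree ≤ D) (hxy : aevalAeval x y f = 0) :
    genus k K ≤ f.natDegree * D * f.natDegree := by
  classical
  have hf : f ≠ 0 := fun h => by simp [h] at hn
  haveI hfin := AbsIrred.finite_of_relation hx hgen hf hxy
  have h : IsFG k K := ⟨x, hx, hfin⟩
  set E := adjoin k ({x} : Set K)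
  set n := Module.finrank E K with hnE
  have hl : aeval x f.leadingCoeff ≠ 0 := fun h0 =>
    leadingCoeff_ne_zero.2 hf (transcendental_iff_injective.1 hx (h0.trans (map_zero _).symm))
  set z := aeval x f.leadingCoeff * y
  have hztop : IntermediateField.adjoin E ({z} : Set K) = ⊤ := by
    rw [eq_top_iff, ← adjoin_simple_over_eq_top hgen, IntermediateField.adjoin_simple_le_iff]
    have h1 : aeval x f.leadingCoeff ∈ IntermediateField.adjoin E ({z} : Set K) := by
      have := IntermediateField.algebraMap_mem (IntermediateField.adjoin E ({z} : Set K)) (toAdjoin (k := k) x f.leadingCoeff)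
      rwa [IntermediateField.algebraMap_apply, coe_toAdjoin] at this
    have := mul_mem (inv_mem h1) (IntermediateField.mem_adjoin_simple_self E z)
    rwa [inv_mul_cancel_left₀ hl] at this
  have hzint : IsIntegral E z := IsIntegral.of_finite E z
  have hdeg : (minpoly E z).natDegree = n := by
    rw [← IntermediateField.adjoin.finrank hzint, hztop, IntermediateField.finrank_top']
  have hliz : LinearIndependent E fun j : Fin n => z ^ (j : ℕ) := by
    rw [← hdeg]
    exact linearIndependent_pow z
  have hpow : LinearIndependent k fun i : ℕ => (IntermediateField.AdjoinSimple.gen k x) ^ i := by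
    refine LinearIndependent.of_comp E.val.toLinearMap ?_
    have := transcendental_iff_injective.1 hx
    have h2 : (fun i : ℕ => E.val ((IntermediateField.AdjoinSimple.gen k x) ^ i)) =
        (aeval x).toLinearMap ∘ fun i => (Polynomial.basisMonomials k) i := by
      funext i; simp [Polynomial.coe_basisMonomials, IntermediateField.AdjoinSimple.gen]
    show LinearIndependent k (fun i : ℕ => E.val ((IntermediateField.AdjoinSimple.gen k x) ^ i))
    rw [h2]
    exact (Polynomial.basisMonomials k).linearIndependent.map' _ (LinearMap.ker_eq_bot.2 this)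
  let B := poleDiv (k := k) x
  let C : Divisor k K := (f.natDegree * D) • B
  have hB0 : (0 : Divisor k K) ≤ B := le_sup_right
  have hzB : ∀ P, val P z ≤ exp ((D : ℤ) * B P) := fun P => by
    refine (val_lead_mul_le P hn hD hxy hl).trans ?_
    rw [← nsmul_eq_mul, exp_nsmul]
    refine pow_le_pow_left' ?_ _
    rw [show B P = max (-P.ord x) 0 from h.poleDiv_apply x P, val_eq P (show x ≠ 0 from fun h0 => hx (h0 ▸ isAlgebraic_zero)),
      ← exp_zero, max_le_iff, exp_le_exp, exp_le_exp]
    exact ⟨le_max_right _ _, le_max_left _ _⟩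
  have hle : n ≤ f.natDegree := finrank_le hx hgen hf hxy
  have hC : ∀ l : ℕ, n * (l + 1) ≤ ell (l • B + C) := fun l => by
    have hli := linearIndependent_smul (hpow.comp (fun i : Fin (l + 1) => (i : ℕ)) Fin.val_injective) hliz
    have hmem : ∀ p : Fin (l + 1) × Fin n,
        (IntermediateField.AdjoinSimple.gen k x) ^ (p.1 : ℕ) • z ^ (p.2 : ℕ) ∈ L (l • B + C) := by
      rintro ⟨i, j⟩ P
      show val P (_ • _) ≤ _
      rw [Algebra.smul_def, map_pow, IntermediateField.AdjoinSimple.algebraMap_gen, map_mul, Finsupp.add_apply,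
        exp_add]
      refine mul_le_mul' (h.pow_mem_L x (Nat.le_of_lt_succ i.2) P) ?_
      rw [map_pow]
      refine (pow_le_pow_left' (hzB P) _).trans ?_
      rw [← exp_nsmul, exp_le_exp, Finsupp.smul_apply, nsmul_eq_mul, nsmul_eq_mul]
      have hj : ((j : ℕ) : ℤ) ≤ f.natDegree := by exact_mod_cast j.2.le.trans hle
      have hB : 0 ≤ B P := hB0 P
      push_cast
      rw [mul_assoc]
      exact mul_le_mul_of_nonneg_right hj (mul_nonneg (Nat.cast_nonneg _) hB)
    have := h.finite_L (l • B + C)
    have hli' : LinearIndependent k fun p => (⟨_, hmem p⟩ : L (l • B + C)) :=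
      LinearIndependent.of_comp (L (l • B + C)).subtype hli
    simpa [ell, mul_comm] using hli'.fintype_card_le_finrank
  refine csSup_le (Set.range_nonempty _) ?_
  rintro _ ⟨E', rfl⟩
  have h1 := delta_le_of_ell h hx C (nsmul_nonneg hB0 _) hC E'
  simp only [delta, C, B, deg_nsmul, h.deg_poleDiv hx] at h1
  have hn1 : 0 < n := Module.finrank_pos
  show (E'.deg + 1 - (ell E' : ℤ)).toNat ≤ _
  rw [Int.toNat_le]
  push_cast
  have h2 : ((f.natDegree : ℤ) * D) * n ≤ ((f.natDegree : ℤ) * D) * f.natDegree :=
    mul_le_mul_of_nonneg_left (by exact_mod_cast hle) (by positivity)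
  push_cast at h1
  linarith [show (1 : ℤ) ≤ n by exact_mod_cast hn1]

end Genus

theorem irreducible_of_map_injective {σ R S : Type*} [Field R] [Field S]
    (e : R →+* S) (he : Function.Injective e) (p : MvPolynomial σ R) (h : Irreducible (MvPolynomial.map e p)) :
    Irreducible p := by
  classical
  haveI : IsLocalHom (MvPolynomial.map (σ := σ) e) := by
    refine ⟨fun q hq => ?_⟩
    obtain ⟨r, hr, hc⟩ := MvPolynomial.isUnit_iff_eq_C_of_isReduced.1 hq
    have hq0 : q = MvPolynomial.C (q.coeff 0) := by
      ext m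
      rw [MvPolynomial.coeff_C]
      split_ifs with hm
      · rw [hm]
      · refine he ?_
        rw [map_zero, ← MvPolynomial.coeff_map, hc, MvPolynomial.coeff_C, if_neg hm]
    rw [hq0]
    refine (isUnit_iff_ne_zero.2 fun h0 => ?_).map MvPolynomial.C
    rw [hq0, h0, map_zero, map_zero] at hq
    exact not_isUnit_zero hq
  exact Irreducible.of_map h

section Fibre

variable [Finite k] {x y : K} {f : k[X][Y]}

/-- The fibre polynomial. -/
noncomputable def fib (f : k[X][Y]) (a : k) : k[X] := f.map (evalRingHom a)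

theorem eval_fib (f : k[X][Y]) (a b : k) : (fib f a).eval b = f.evalEval a b :=
  Polynomial.map_evalRingHom_eval a b f

theorem natDegree_fib_le (f : k[X][Y]) (a : k) : (fib f a).natDegree ≤ f.natDegree := natDegree_map_le

theorem fib_ne_zero (hirr : Irreducible f) (hn : 0 < f.natDegree) (a : k) : fib f a ≠ 0 := by
  intro h0
  have hdvd : C (X - C a) ∣ f := by
    rw [C_dvd_iff_dvd_coeff]
    intro j
    rw [dvd_iff_isRoot]
    have := congrArg (fun p : k[X] => p.coeff j) h0
    simpa [fib, coeff_map] using this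
  have h1 : ¬IsUnit (C (X - C a) : k[X][Y]) := fun hu => not_isUnit_X_sub_C a (isUnit_C.1 hu)
  have h2 := (hirr.dvd_iff.1 hdvd).resolve_left h1
  have h3 := natDegree_le_of_dvd h2.dvd (C_ne_zero.2 (X_sub_C_ne_zero a))
  rw [natDegree_C] at h3
  omega

end Fibre

variable {x y : K} {f : k[X][Y]} (hx : Transcendental k x) (hgen : adjoin k ({x, y} : Set K) = ⊤)
  (hker : ∀ g : k[X][Y], aevalAeval x y g = 0 ↔ f ∣ g) (hn : 0 < f.natDegree)

include hx hgen hker hn in
/-- Places over a good value of `x` and the roots of the fibre polynomial. -/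
theorem card_fibre_good [DecidableEq k] (a : k) (hsep : (fib f a).Separable) (hlead : f.leadingCoeff.eval a ≠ 0)
    (S : Finset (Place k K)) (hS : ∀ P, P ∈ S ↔ val P (x - algebraMap k K a) < 1) :
    (S.filter fun P => P.deg = 1).card = (fib f a).roots.toFinset.card := by
  classical
  have hxy : aevalAeval x y f = 0 := (hker f).2 dvd_rfl
  have hf : f ≠ 0 := fun h => by simp [h] at hn
  haveI := AbsIrred.finite_of_relation hx hgen hf hxy
  have hfg : IsFG k K := ⟨x, hx, inferInstance⟩
  set xa := x - algebraMap k K a with hxa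
  have hxa0 : Transcendental k xa := by
    intro h
    refine hx ?_
    have := h.add (isAlgebraic_algebraMap (R := k) (A := K) a)
    rwa [hxa, sub_add_cancel] at this
  have hadj : adjoin k ({xa} : Set K) = adjoin k ({x} : Set K) := by
    refine le_antisymm ?_ ?_ <;> rw [IntermediateField.adjoin_simple_le_iff]
    · exact sub_mem (IntermediateField.mem_adjoin_simple_self k x) (IntermediateField.algebraMap_mem _ a)
    · simpa [hxa] using add_mem (IntermediateField.mem_adjoin_simple_self k xa) (IntermediateField.algebraMap_mem (adjoin k ({xa} : Set K)) a)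
  haveI : FiniteDimensional (adjoin k ({xa} : Set K)) K := by rw [hadj]; infer_instance
  have hxa' : xa ≠ 0 := fun h => hxa0 (h ▸ isAlgebraic_zero)
  let Fa := fib f a
  have hdegFa : Fa.natDegree = f.natDegree := natDegree_map_of_leadingCoeff_ne_zero _ hlead
  have hFa0 : Fa ≠ 0 := fun h => by rw [h, natDegree_zero] at hdegFa; omega
  let H := (UniqueFactorizationMonoid.normalizedFactors Fa).toFinset
  have hH : ∀ h ∈ H, Irreducible h ∧ h.Monic ∧ h ∣ Fa := fun h hh => by
    rw [Multiset.mem_toFinset] at hh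
    have hi := UniqueFactorizationMonoid.irreducible_of_normalized_factor h hh
    refine ⟨hi, ?_, UniqueFactorizationMonoid.dvd_of_mem_normalizedFactors hh⟩
    rw [← UniqueFactorizationMonoid.normalize_normalized_factor h hh]
    exact monic_normalize hi.ne_zero
  have hsum : ∑ h ∈ H, h.natDegree = f.natDegree := by
    have hnd : (UniqueFactorizationMonoid.normalizedFactors Fa).Nodup :=
      (UniqueFactorizationMonoid.squarefree_iff_nodup_normalizedFactors hFa0).1 hsep.squarefree
    have h1 : Associated (∏ h ∈ H, h) Fa := by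
      rw [Finset.prod_eq_multiset_prod, Multiset.toFinset_val, Multiset.dedup_eq_self.2 hnd, Multiset.map_id']
      exact UniqueFactorizationMonoid.prod_normalizedFactors hFa0
    rw [← hdegFa, ← natDegree_prod _ _ fun h hh => (hH h hh).1.ne_zero]
    exact natDegree_eq_of_degree_eq (degree_eq_degree_of_associated h1)
  -- the ring of the affine curve
  let φ : k[X][Y] →ₐ[k] K := aevalAeval x y
  let R := φ.range
  have hmem : ∀ g, φ g ∈ R := fun g => ⟨g, rfl⟩
  have hxaR : φ (C (X - C a)) = xa := by simp [φ, hxa]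
  have hpl : ∀ h ∈ H, ∃ P : Place k K, val P xa < 1 ∧ (∀ g, val P (φ g) ≤ 1) ∧
      val P (φ (h.map C)) < 1 := by
    intro h hh
    obtain ⟨hi, -, hd⟩ := hH h hh
    let ψ : k[X][Y] →ₐ[k] AdjoinRoot h := aevalAeval (algebraMap k (AdjoinRoot h) a) (AdjoinRoot.root h)
    haveI := Fact.mk hi
    have hψf : ∀ g, φ g = 0 → ψ g = 0 := by
      intro g hg
      obtain ⟨q, rfl⟩ := (hker g).1 hg
      have e : ψ f = aeval (AdjoinRoot.root h) Fa := by
        show aevalAeval _ _ f = aeval _ (fib f a)
        rw [fib, aeval_def (p := f.map _), eval₂_map]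
        conv_lhs => rw [f.as_sum_range_C_mul_X_pow]
        rw [map_sum, eval₂_eq_sum_range]
        refine Finset.sum_congr rfl fun i _ => ?_
        simp [aeval_algebraMap_apply_eq_algebraMap_eval]
      obtain ⟨c, hc⟩ := hd
      rw [map_mul, e, show Fa = h * c from hc, map_mul, AdjoinRoot.aeval_eq, AdjoinRoot.mk_self, zero_mul, zero_mul]
    let I : Ideal R :=
      { carrier := {r | ∃ g, φ g = r.1 ∧ ψ g = 0}
        add_mem' := by
          rintro r s ⟨g, hg, hg'⟩ ⟨g', h1, h1'⟩
          exact ⟨g + g', by rw [map_add, hg, h1]; rfl, by rw [map_add, hg', h1', add_zero]⟩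
        zero_mem' := ⟨0, by simp, by simp⟩
        smul_mem' := by
          rintro ⟨_, g', rfl⟩ r ⟨g, hg, hg'⟩
          exact ⟨g' * g, by rw [map_mul, hg]; rfl, by rw [map_mul, hg', mul_zero]⟩ }
    have hI : I ≠ ⊤ := by
      rw [Ideal.ne_top_iff_one]
      rintro ⟨g, hg, hg'⟩
      have h1 := hψf (g - 1) (by rw [map_sub, map_one, hg]; simp)
      rw [map_sub, map_one, hg', zero_sub, neg_eq_zero] at h1
      exact one_ne_zero h1
    have hψa : ψ (C (X - C a)) = 0 := by simp [ψ]
    obtain ⟨P, h1, h2⟩ := exists_place_centred hxa0 R I hI (hxaR ▸ hmem _) ⟨C (X - C a), hxaR, hψa⟩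
    refine ⟨P, h2 ⟨xa, hxaR ▸ hmem (C (X - C a))⟩ ⟨C (X - C a), hxaR, hψa⟩, fun g => h1 _ (hmem g),
      h2 ⟨_, hmem (h.map C)⟩ ⟨h.map C, rfl, ?_⟩⟩
    show aevalAeval _ _ (h.map C) = 0
    have hgen' : ∀ p : k[X], aevalAeval (algebraMap k (AdjoinRoot h) a) (AdjoinRoot.root h) (p.map C) =
        aeval (AdjoinRoot.root h) p := fun p => by
      induction p using Polynomial.induction_on' with
      | add p q hp hq => rw [Polynomial.map_add, map_add, map_add, hp, hq]
      | monomial m c => rw [map_monomial, ← C_mul_X_pow_eq_monomial, map_mul, map_pow, aeval_monomial]; simp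
    rw [hgen', AdjoinRoot.aeval_eq, AdjoinRoot.mk_self]
  haveI : Nonempty (Place k K) := hfg.exists_place
  choose! Pl hPlS hPlint hPlh using hpl
  have hmapC : ∀ p : k[X], φ (p.map C) = aeval y p := fun p => by
    induction p using Polynomial.induction_on' with
    | add p q hp hq => rw [Polynomial.map_add, map_add, map_add, hp, hq]
    | monomial m c => rw [map_monomial, ← C_mul_X_pow_eq_monomial, map_mul, map_pow, aeval_monomial]; simp [φ]
  have hres : ∀ h ∈ H, h.natDegree ≤ (Pl h).deg ∧ ∀ h' ∈ H, Pl h' = Pl h → h' = h := by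
    intro h hh
    obtain ⟨hi, hm, -⟩ := hH h hh
    haveI := Fact.mk hi
    haveI : @Module.Finite k (IsLocalRing.ResidueField (Pl h).O) _ _ Algebra.toModule :=
      hfg.finite_residueField (Pl h)
    have hyO : y ∈ (Pl h).O := by
      have := hPlint h hh X
      simpa [φ, mem_O_iff] using this
    let ρ : k[X] →ₐ[k] IsLocalRing.ResidueField (Pl h).O := aeval (res (Pl h) ⟨y, hyO⟩)
    have hρ : ∀ p : k[X], val (Pl h) (aeval y p) < 1 → ρ p = 0 := fun p hp => by
      show aeval (res (Pl h) ⟨y, hyO⟩) p = 0
      rw [aeval_algHom_apply, res_eq_zero_iff]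
      have e : ((aeval (⟨y, hyO⟩ : (Pl h).O) p : (Pl h).O) : K) = aeval y p := by
        clear hp
        induction p using Polynomial.induction_on' with
        | add p q hp' hq' => rw [map_add, map_add, ← hp', ← hq']; rfl
        | monomial m c => rw [aeval_monomial, aeval_monomial]; simp [algebraMap_O_coe]
      rwa [e]
    have hρh : ρ h = 0 := hρ h (by rw [← hmapC]; exact hPlh h hh)
    refine ⟨?_, fun h' hh' he => ?_⟩
    · let χ := AdjoinRoot.liftAlgHom h (Algebra.ofId k (IsLocalRing.ResidueField (Pl h).O)) (res (Pl h) ⟨y, hyO⟩) hρh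
      have := LinearMap.finrank_le_finrank_of_injective (f := χ.toLinearMap) χ.toRingHom.injective
      rwa [PowerBasis.finrank (AdjoinRoot.powerBasis hi.ne_zero), AdjoinRoot.powerBasis_dim] at this
    · by_contra hne
      obtain ⟨hi', hm', -⟩ := hH h' hh'
      have hρh' : ρ h' = 0 := hρ h' (by rw [← hmapC, ← he]; exact hPlh h' hh')
      have hcop : IsCoprime h' h := (hi'.coprime_iff_not_dvd).2 fun hdvd =>
        hne (eq_of_monic_of_associated hm' hm (hi'.associated_of_dvd hi hdvd))
      obtain ⟨u, v, huv⟩ := hcop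
      have := congrArg ρ huv
      rw [map_add, map_mul, map_mul, hρh', hρh, mul_zero, mul_zero, add_zero, map_one] at this
      exact zero_ne_one this
  have hinj : Set.InjOn Pl H := fun h hh h' hh' e => ((hres h' hh').2 h hh e)
  have hsub : H.image Pl ⊆ S := fun P hP => by
    obtain ⟨h, hh, rfl⟩ := Finset.mem_image.1 hP
    exact (hS _).2 (hPlS h hh)
  have hup : (∑ P ∈ S, (P.deg : ℤ)) ≤ f.natDegree := by
    refine le_trans (Finset.sum_le_sum fun P hP => ?_) ((hfg.sum_ord_mul_deg_le hxa0 S fun P hP =>
      (val_lt_one_iff P hxa').1 ((hS P).1 hP)).trans ?_)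
    · exact le_mul_of_one_le_left (Nat.cast_nonneg _) ((val_lt_one_iff P hxa').1 ((hS P).1 hP))
    · rw [hadj]; exact_mod_cast finrank_le hx hgen hf hxy
  have hlow : (∑ P ∈ H.image Pl, (P.deg : ℤ)) ≥ ∑ h ∈ H, ((Pl h).deg : ℤ) := by
    rw [Finset.sum_image hinj]
  have heq : (∑ h ∈ H, (h.natDegree : ℤ)) = f.natDegree := by exact_mod_cast hsum
  have hsplit := Finset.sum_sdiff (f := fun P : Place k K => (P.deg : ℤ)) hsub
  have hrest : S = H.image Pl := by
    refine le_antisymm (fun P hP => ?_) hsub
    by_contra hPn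
    have hpos := hfg.deg_pos P
    have h1 := Finset.single_le_sum (f := fun P : Place k K => (P.deg : ℤ)) (fun _ _ => Nat.cast_nonneg _)
      (Finset.mem_sdiff.2 ⟨hP, hPn⟩ : P ∈ S \ H.image Pl)
    have h2 : (∑ h ∈ H, (h.natDegree : ℤ)) ≤ ∑ h ∈ H, ((Pl h).deg : ℤ) :=
      Finset.sum_le_sum fun h hh => by exact_mod_cast (hres h hh).1
    omega
  have hdeq : ∀ h ∈ H, (Pl h).deg = h.natDegree := by
    have h2 : ∀ h ∈ H, (h.natDegree : ℤ) ≤ ((Pl h).deg : ℤ) := fun h hh => by exact_mod_cast (hres h hh).1
    have h1 : (∑ h ∈ H, (h.natDegree : ℤ)) = ∑ h ∈ H, ((Pl h).deg : ℤ) := by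
      refine le_antisymm (Finset.sum_le_sum h2) ?_
      rw [heq, ← Finset.sum_image (f := fun P : Place k K => (P.deg : ℤ)) hinj, ← hrest]
      exact hup
    exact fun h hh => by exact_mod_cast ((Finset.sum_eq_sum_iff_of_le h2).1 h1 h hh).symm
  have hH1 : H.filter (fun h => h.natDegree = 1) = (fib f a).roots.toFinset.image fun b => X - C b := by
    ext h
    simp only [Finset.mem_filter, Finset.mem_image, Multiset.mem_toFinset]
    constructor
    · rintro ⟨hh, h1⟩
      obtain ⟨hi, hm, hd⟩ := hH h (Multiset.mem_toFinset.2 hh |> fun _ => by simpa [H] using hh)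
      have e : h = X - C (-h.coeff 0) := by
        rw [map_neg, sub_neg_eq_add]
        exact hm.eq_X_add_C h1
      refine ⟨-h.coeff 0, ?_, e.symm⟩
      rw [mem_roots hFa0, ← dvd_iff_isRoot, ← e]
      exact hd
    · rintro ⟨b, hb, rfl⟩
      refine ⟨?_, natDegree_X_sub_C b⟩
      obtain ⟨q, hq, hqa⟩ := UniqueFactorizationMonoid.exists_mem_normalizedFactors_of_dvd hFa0
        (irreducible_X_sub_C b) (dvd_iff_isRoot.2 ((mem_roots hFa0).1 hb))
      have : q = X - C b := by
        refine eq_of_monic_of_associated (hH q (Multiset.mem_toFinset.2 hq)).2.1 (monic_X_sub_C b) hqa.symm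
      rw [← this]
      simpa [H] using hq
  calc (S.filter fun P => P.deg = 1).card = ((H.filter fun h => h.natDegree = 1).image Pl).card := by
        congr 1
        rw [hrest, Finset.filter_image]
        congr 1
        exact Finset.filter_congr fun h hh => by rw [hdeq h hh]
    _ = (H.filter fun h => h.natDegree = 1).card :=
        Finset.card_image_of_injOn (hinj.mono (Finset.coe_subset.2 (Finset.filter_subset _ _)))
    _ = _ := by
        rw [hH1, Finset.card_image_of_injective]
        intro b b' e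
        simpa using e

include hx hgen hker hn in
theorem card_places_le (S : Finset (Place k K)) {a : k} (hS : ∀ P ∈ S, val P (x - algebraMap k K a) < 1) :
    S.card ≤ f.natDegree := by
  have hf : f ≠ 0 := fun h => by simp [h] at hn
  have hxy : aevalAeval x y f = 0 := (hker f).2 dvd_rfl
  haveI := AbsIrred.finite_of_relation hx hgen hf hxy
  have hfg : IsFG k K := ⟨x, hx, inferInstance⟩
  have hxa : Transcendental k (x - algebraMap k K a) := fun h => hx (by
    simpa using h.add (isAlgebraic_algebraMap (R := k) (A := K) a))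
  have h0 : x - algebraMap k K a ≠ 0 := fun h => hxa (h ▸ isAlgebraic_zero)
  have hadj : adjoin k ({x - algebraMap k K a} : Set K) = adjoin k ({x} : Set K) := by
    refine le_antisymm ?_ ?_ <;> rw [IntermediateField.adjoin_simple_le_iff]
    · exact sub_mem (IntermediateField.mem_adjoin_simple_self k x) (IntermediateField.algebraMap_mem _ a)
    · simpa using add_mem (IntermediateField.mem_adjoin_simple_self k (x - algebraMap k K a))
        (IntermediateField.algebraMap_mem (adjoin k ({x - algebraMap k K a} : Set K)) a)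
  have h := hfg.sum_ord_mul_deg_le hxa S fun P hP => (val_lt_one_iff P h0).1 (hS P hP)
  have h2 : (S.card : ℤ) ≤ ∑ P ∈ S, P.ord (x - algebraMap k K a) * (P.deg : ℤ) := by
    rw [Finset.card_eq_sum_ones]
    push_cast
    refine Finset.sum_le_sum fun P hP => ?_
    have h1 := (val_lt_one_iff P h0).1 (hS P hP)
    have := hfg.deg_pos P
    exact one_le_mul_of_one_le_of_one_le h1 (by exact_mod_cast this)
  have h3 := finrank_le hx hgen hf hxy
  rw [hadj] at h
  omega

include hx hgen hker hn in
theorem card_poles_le (S : Finset (Place k K)) (hS : ∀ P ∈ S, 1 < val P x) : S.card ≤ f.natDegree := by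
  have hf : f ≠ 0 := fun h => by simp [h] at hn
  have hxy : aevalAeval x y f = 0 := (hker f).2 dvd_rfl
  haveI := AbsIrred.finite_of_relation hx hgen hf hxy
  have hfg : IsFG k K := ⟨x, hx, inferInstance⟩
  have hx0 : x ≠ 0 := fun h => hx (h ▸ isAlgebraic_zero)
  have hadj : adjoin k ({x⁻¹} : Set K) = adjoin k ({x} : Set K) := by
    refine le_antisymm ?_ ?_ <;> rw [IntermediateField.adjoin_simple_le_iff]
    · exact inv_mem (IntermediateField.mem_adjoin_simple_self k x)
    · simpa using inv_mem (IntermediateField.mem_adjoin_simple_self k x⁻¹)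
  have hpos : ∀ P ∈ S, 0 < P.ord x⁻¹ := fun P hP => by
    refine (val_lt_one_iff P (inv_ne_zero hx0)).1 ?_
    rw [map_inv₀]
    exact inv_lt_one_of_one_lt₀ (hS P hP)
  have h := hfg.sum_ord_mul_deg_le (transcendental_inv hx) S hpos
  have h2 : (S.card : ℤ) ≤ ∑ P ∈ S, P.ord x⁻¹ * (P.deg : ℤ) := by
    rw [Finset.card_eq_sum_ones]
    push_cast
    refine Finset.sum_le_sum fun P hP => ?_
    have := hfg.deg_pos P
    exact one_le_mul_of_one_le_of_one_le (hpos P hP) (by exact_mod_cast this)
  have h3 := finrank_le hx hgen hf hxy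
  rw [hadj] at h
  omega

theorem exists_rat_of_deg_one (P : Place k K) (hP : P.deg = 1) {z : K} (hz : val P z ≤ 1) :
    ∃ a : k, val P (z - algebraMap k K a) < 1 := by
  obtain ⟨a, ha⟩ := (Module.Free.bijective_algebraMap_of_finrank_eq_one (R := k) (S := IsLocalRing.ResidueField P.O) hP).2 (res P ⟨z, hz⟩)
  refine ⟨a, ?_⟩
  have h : res P (⟨z, hz⟩ - algebraMap k P.O a) = 0 := by
    rw [map_sub, AlgHom.commutes, ha, sub_self]
  rw [res_eq_zero_iff] at h
  simpa [algebraMap_O_coe] using h

variable [Finite k]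

/-- The affine points of an absolutely irreducible plane curve. -/
theorem abs_card_points_sub_le (f : k[X][Y])
    (hirr : Irreducible (MvPolynomial.map (algebraMap k (AlgebraicClosure k)) (equivMvPolynomial (R := k) f)))
    (hn : 0 < f.natDegree) {D : ℕ} (hD : ∀ j, (f.coeff j).natDegree ≤ D)
    (c : k[X]) (hc0 : c ≠ 0) (hcD : c.natDegree ≤ D) (u v : k[X][Y]) (huv : u * f + v * derivative f = C c) :
    |(Nat.card {p : k × k // f.evalEval p.1 p.2 = 0} : ℝ) - Nat.card k| ≤
      ((2 * D + 1) * f.natDegree + 1 + 2 * (f.natDegree * D * f.natDegree) : ℕ) * Real.sqrt (Nat.card k) := by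
  classical
  letI : Fintype k := Fintype.ofFinite k
  set g := equivMvPolynomial (R := k) f with hg
  have hirr' : ∀ (k' : Type u) [Field k'] [Algebra k k'], FiniteDimensional k k' →
      Irreducible (MvPolynomial.map (algebraMap k k') g) := by
    intro k' _ _ _
    let e : k' →ₐ[k] AlgebraicClosure k := IsAlgClosed.lift
    refine irreducible_of_map_injective e.toRingHom e.toRingHom.injective _ ?_
    rwa [MvPolynomial.map_map, show e.toRingHom.comp (algebraMap k k') = algebraMap k (AlgebraicClosure k)
      from e.comp_algebraMap]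
  have hgirr : Irreducible g := irreducible_of_map_injective _ (algebraMap k (AlgebraicClosure k)).injective _ hirr
  have hfirr : Irreducible f := (MulEquiv.irreducible_iff (equivMvPolynomial (R := k)).toMulEquiv).1 hgirr
  haveI : (Ideal.span {g}).IsPrime := (Ideal.span_singleton_prime hgirr.ne_zero).2 hgirr.prime
  let A := MvPolynomial (Fin 2) k ⧸ Ideal.span {g}
  let K := FractionRing A
  let ι : MvPolynomial (Fin 2) k →ₐ[k] K :=
    (IsScalarTower.toAlgHom k A K).comp (Ideal.Quotient.mkₐ k (Ideal.span {g}))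
  let x := ι (MvPolynomial.X 0)
  let y := ι (MvPolynomial.X 1)
  have hι : ι = MvPolynomial.aeval ![x, y] := MvPolynomial.algHom_ext fun i => by fin_cases i <;> simp [x, y]
  have hkerM : RingHom.ker (MvPolynomial.aeval ![x, y] : MvPolynomial (Fin 2) k →ₐ[k] K) = Ideal.span {g} := by
    rw [← hι]
    ext p
    rw [RingHom.mem_ker]
    show algebraMap A K (Ideal.Quotient.mk _ p) = 0 ↔ _
    rw [map_eq_zero_iff _ (IsFractionRing.injective A K), Ideal.Quotient.eq_zero_iff_mem]
  have hgen : adjoin k ({x, y} : Set K) = ⊤ := by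
    refine eq_top_iff.2 fun z _ => ?_
    obtain ⟨a, b, -, rfl⟩ := IsFractionRing.div_surjective (A := A) z
    obtain ⟨p, rfl⟩ := Ideal.Quotient.mk_surjective a
    obtain ⟨q, rfl⟩ := Ideal.Quotient.mk_surjective b
    have hm : ∀ p, ι p ∈ adjoin k ({x, y} : Set K) := fun p => by
      rw [hι]
      induction p using MvPolynomial.induction_on with
      | C a => rw [MvPolynomial.aeval_C]; exact IntermediateField.algebraMap_mem _ a
      | add a b ha hb => rw [map_add]; exact add_mem ha hb
      | mul_X a i ha =>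
        rw [map_mul, MvPolynomial.aeval_X]
        refine mul_mem ha (IntermediateField.subset_adjoin k _ ?_)
        fin_cases i <;> simp
    exact div_mem (hm p) (hm q)
  have hker : ∀ G : k[X][Y], aevalAeval x y G = 0 ↔ f ∣ G := fun G => by
    rw [show aevalAeval x y G = MvPolynomial.aeval ![x, y] (equivMvPolynomial (R := k) G) by
      rw [AbsIrred.aeval_eq_aevalAeval, AlgEquiv.symm_apply_apply], ← RingHom.mem_ker, hkerM,
      Ideal.mem_span_singleton, hg]
    exact map_dvd_iff _
  have hx : Transcendental k x := by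
    rintro ⟨p, hp, hpx⟩
    have h1 : f ∣ C p := (hker _).1 (by rw [aevalAeval_C, hpx])
    have h2 := natDegree_le_of_dvd h1 (C_ne_zero.2 hp)
    rw [natDegree_C] at h2
    omega
  have hgeo := AbsIrred.isGeometric_of_model x y hgen hirr' hkerM
  have hK := AbsIrred.isFunctionField_of_model x y hgen hgirr hgeo hkerM
  have hxy : aevalAeval x y f = 0 := (hker f).2 dvd_rfl
  haveI := AbsIrred.finite_of_relation hx hgen hfirr.ne_zero hxy
  have hfg : IsFG k K := hK.1
  have hW := RH.abs_pointSum_sub_le hK (m := 1) le_rfl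
  rw [RH.pointSum_one hK, pow_one, ← sub_sub] at hW
  have hgenus := genus_le hx hgen hn hD hxy
  -- the places of degree one
  have hxa : ∀ a : k, Transcendental k (x - algebraMap k K a) := fun a h => hx (by
    simpa using h.add (isAlgebraic_algebraMap (R := k) (A := K) a))
  have hx0 : x ≠ 0 := fun h => hx (h ▸ isAlgebraic_zero)
  have hzf : ∀ a : k, {P : Place k K | val P (x - algebraMap k K a) < 1}.Finite := fun a =>
    (hfg.finite_zeros (x - algebraMap k K a)).subset fun P hP =>
      (val_lt_one_iff P (show x - algebraMap k K a ≠ 0 from fun h => hxa a (h ▸ isAlgebraic_zero))).1 hP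
  have hinf : {P : Place k K | 1 < val P x}.Finite :=
    (hfg.finite_zeros x⁻¹).subset fun P hP => (val_lt_one_iff P (inv_ne_zero hx0)).1 (by
      rw [map_inv₀]; exact inv_lt_one_of_one_lt₀ hP)
  let S : k → Finset (Place k K) := fun a => (hzf a).toFinset.filter fun P => P.deg = 1
  let S' : Finset (Place k K) := hinf.toFinset.filter fun P => P.deg = 1
  have hdisj : ∀ a b : k, a ≠ b → Disjoint (S a) (S b) := fun a b hab => by
    refine Finset.disjoint_left.2 fun P ha hb => ?_
    simp only [S, Finset.mem_filter, Set.Finite.mem_toFinset, Set.mem_setOf_eq] at ha hb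
    have h1 := lt_of_le_of_lt ((val P).map_sub _ _) (max_lt hb.1 ha.1)
    rw [show x - algebraMap k K b - (x - algebraMap k K a) = algebraMap k K (a - b) by rw [map_sub]; ring,
      val_const P (sub_ne_zero.2 hab)] at h1
    exact lt_irrefl _ h1
  have hP1 : Nat.card {P : Place k K // P.deg = 1} = (∑ a : k, (S a).card) + S'.card := by
    rw [← Finset.card_biUnion fun a _ b _ h => hdisj a b h, ← Finset.card_union_of_disjoint]
    · rw [← Nat.card_eq_finsetCard]
      refine Nat.card_congr (Equiv.subtypeEquivRight fun P => ?_)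
      simp only [Finset.mem_union, Finset.mem_biUnion, Finset.mem_univ, true_and, S, S', Finset.mem_filter,
        Set.Finite.mem_toFinset, Set.mem_setOf_eq]
      constructor
      · intro hP
        rcases le_or_gt (val P x) 1 with h | h
        · obtain ⟨a, ha⟩ := exists_rat_of_deg_one P hP h
          exact Or.inl ⟨a, ha, hP⟩
        · exact Or.inr ⟨h, hP⟩
      · rintro (⟨a, -, hP⟩ | ⟨-, hP⟩) <;> exact hP
    · refine Finset.disjoint_left.2 fun P hP hP' => ?_
      simp only [Finset.mem_biUnion, S, S', Finset.mem_filter, Set.Finite.mem_toFinset, Set.mem_setOf_eq] at hP hP'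
      obtain ⟨a, -, ha, -⟩ := hP
      have h1 : val P x ≤ 1 := by
        have := (val P).map_add (x - algebraMap k K a) (algebraMap k K a)
        rw [sub_add_cancel] at this
        exact this.trans (max_le ha.le (P.2.1 a))
      exact hP'.1.not_ge h1
  have hN : Nat.card {p : k × k // f.evalEval p.1 p.2 = 0} = ∑ a : k, (fib f a).roots.toFinset.card := by
    rw [← Finset.card_sigma, ← Nat.card_eq_finsetCard]
    refine Nat.card_congr
      { toFun := fun p => ⟨⟨p.1.1, p.1.2⟩, by
          simp [mem_roots (fib_ne_zero hfirr hn p.1.1), eval_fib, p.2]⟩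
        invFun := fun s => ⟨(s.1.1, s.1.2), by
          have := (Finset.mem_sigma.1 s.2).2
          rw [Multiset.mem_toFinset, mem_roots (fib_ne_zero hfirr hn _), IsRoot.def, eval_fib] at this
          exact this⟩
        left_inv := fun p => rfl
        right_inv := fun s => rfl }
  let bad : Finset k := (c * f.leadingCoeff).roots.toFinset
  have hbad : bad.card ≤ 2 * D := by
    refine (Multiset.toFinset_card_le _).trans ((card_roots' _).trans (natDegree_mul_le.trans ?_))
    have : f.leadingCoeff.natDegree ≤ D := hD _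
    omega
  have hgood : ∀ a ∉ bad, (S a).card = (fib f a).roots.toFinset.card := by
    intro a ha
    have hne : ¬IsRoot (c * f.leadingCoeff) a := fun h => ha (Multiset.mem_toFinset.2
      ((mem_roots (mul_ne_zero hc0 (leadingCoeff_ne_zero.2 hfirr.ne_zero))).2 h))
    rw [IsRoot.def, eval_mul, mul_eq_zero, not_or] at hne
    refine card_fibre_good hx hgen hker hn a ?_ hne.2 _ fun P => by simp
    refine (separable_def' _).2 ⟨C (c.eval a)⁻¹ * u.map (evalRingHom a), C (c.eval a)⁻¹ * v.map (evalRingHom a), ?_⟩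
    have h1 := congrArg (Polynomial.map (evalRingHom a)) huv
    rw [Polynomial.map_add, Polynomial.map_mul, Polynomial.map_mul, ← derivative_map, Polynomial.map_C,
      coe_evalRingHom] at h1
    rw [mul_assoc, mul_assoc, ← mul_add, fib, h1, ← C_mul, inv_mul_cancel₀ hne.1, C_1]
  have hb1 : ∀ a, (S a).card ≤ f.natDegree := fun a =>
    card_places_le hx hgen hker hn (S a) (a := a) fun P hP => by
      simp only [S, Finset.mem_filter, Set.Finite.mem_toFinset, Set.mem_setOf_eq] at hP; exact hP.1
  have hb2 : ∀ a, (fib f a).roots.toFinset.card ≤ f.natDegree := fun a =>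
    (Multiset.toFinset_card_le _).trans ((card_roots' _).trans (natDegree_fib_le f a))
  have hb3 : S'.card ≤ f.natDegree := card_poles_le hx hgen hker hn S' fun P hP => by
    simp only [S', Finset.mem_filter, Set.Finite.mem_toFinset, Set.mem_setOf_eq] at hP; exact hP.1
  have hdiff : |(∑ a : k, ((fib f a).roots.toFinset.card : ℤ)) - ∑ a : k, ((S a).card : ℤ)| ≤
      (2 * D * f.natDegree : ℕ) := by
    rw [← Finset.sum_sub_distrib, ← Finset.sum_subset (Finset.subset_univ bad) fun a _ ha => by rw [hgood a ha, sub_self]]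
    refine (Finset.abs_sum_le_sum_abs _ _).trans ?_
    refine (Finset.sum_le_sum (g := fun _ => (f.natDegree : ℤ)) fun a _ => ?_).trans ?_
    · have := hb1 a; have := hb2 a; rw [abs_le]; omega
    · rw [Finset.sum_const, nsmul_eq_mul]
      push_cast
      exact mul_le_mul_of_nonneg_right (by exact_mod_cast hbad) (Nat.cast_nonneg _)
  have hs1 : (1 : ℝ) ≤ Real.sqrt (Nat.card k) := Real.one_le_sqrt.2 (by exact_mod_cast Nat.card_pos)
  have hd2 : |(Nat.card {p : k × k // f.evalEval p.1 p.2 = 0} : ℝ) - Nat.card {P : Place k K // P.deg = 1}| ≤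
      ((2 * D + 1) * f.natDegree : ℕ) := by
    have h1 : |((∑ a : k, (fib f a).roots.toFinset.card : ℕ) : ℤ) - ((∑ a : k, (S a).card) + S'.card : ℕ)| ≤
        (((2 * D + 1) * f.natDegree : ℕ) : ℤ) := by
      push_cast at hdiff ⊢
      rw [abs_le] at hdiff ⊢
      have : (S'.card : ℤ) ≤ f.natDegree := by exact_mod_cast hb3
      constructor <;> nlinarith [hdiff.1, hdiff.2, Nat.cast_nonneg (α := ℤ) S'.card]
    rw [hN, hP1]
    exact_mod_cast h1
  have hg2 : 2 * (genus k K : ℝ) * Real.sqrt (Nat.card k) ≤
      ((2 * (f.natDegree * D * f.natDegree) : ℕ) : ℝ) * Real.sqrt (Nat.card k) := by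
    refine mul_le_mul_of_nonneg_right ?_ (Real.sqrt_nonneg _)
    push_cast
    have : (genus k K : ℝ) ≤ ((f.natDegree * D * f.natDegree : ℕ) : ℝ) := by exact_mod_cast hgenus
    push_cast at this
    linarith
  push_cast at hd2 hg2 ⊢
  rw [abs_le] at hd2 hW ⊢
  have h0 : 0 ≤ ((2 * (D : ℝ) + 1) * f.natDegree) := by positivity
  constructor <;> nlinarith [hd2.1, hd2.2, hW.1, hW.2, mul_le_mul_of_nonneg_left hs1 h0]

end GrothLib.LangWeil28
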