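import Groth.Agent.Lib.Zeta.EulerSeries
import Mathlib.NumberTheory.NumberField.DedekindZeta
import Mathlib.Analysis.PSeries
import Mathlib.RingTheory.DedekindDomain.Factorization

/-!
# Degree one primes are not sparse
-/

set_option autoImplicit false
set_option linter.all false

universe u

open Filter IsDedekindDomain NumberField
open scoped Classical Topology nonZeroDivisors

namespace GrothLib.LangWeil28

variable (K : Type u) [Field K] [NumberField K]

theorem exists_finsupp_prod_eq (I : Ideal (𝓞 K)) (hI : I ≠ 0) :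
    ∃ α : HeightOneSpectrum (𝓞 K) →₀ ℕ, α.prod (fun v m => v.asIdeal ^ m) = I := by
  induction I using UniqueFactorizationMonoid.induction_on_prime with
  | h₁ => exact absurd rfl hI
  | h₂ J hJ => exact ⟨0, by rw [Finsupp.prod_zero_index, Ideal.isUnit_iff.1 hJ, Ideal.one_eq_top]⟩
  | h₃ J p hJ0 hp ih =>
    obtain ⟨α, hα⟩ := ih hJ0
    refine ⟨Finsupp.single ⟨p, Ideal.isPrime_of_prime hp, hp.ne_zero⟩ 1 + α, ?_⟩
    rw [Finsupp.prod_add_index' (fun v => pow_zero _) (fun v m n => pow_add _ _ _), hα,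
      Finsupp.prod_single_index (by rw [pow_zero]), pow_one]

theorem two_le_absNorm (v : HeightOneSpectrum (𝓞 K)) : 2 ≤ Ideal.absNorm v.asIdeal := by
  have h0 : Ideal.absNorm v.asIdeal ≠ 0 := fun h => v.ne_bot (Ideal.absNorm_eq_zero_iff.1 h)
  have h1 : Ideal.absNorm v.asIdeal ≠ 1 := fun h => v.isPrime.ne_top (Ideal.absNorm_eq_one_iff.1 h)
  omega

theorem exists_absNorm_eq_pow (v : HeightOneSpectrum (𝓞 K)) :
    ∃ p f : ℕ, p.Prime ∧ 0 < f ∧ Ideal.absNorm v.asIdeal = p ^ f ∧ ((p : ℕ) : 𝓞 K) ∈ v.asIdeal := by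
  haveI := v.isMaximal
  letI := Ideal.Quotient.field v.asIdeal
  haveI : Finite (𝓞 K ⧸ v.asIdeal) := Nat.finite_of_card_ne_zero (by
    rw [← Submodule.cardQuot_apply, ← Ideal.absNorm_apply]
    exact fun h => v.ne_bot (Ideal.absNorm_eq_zero_iff.1 h))
  letI := Fintype.ofFinite (𝓞 K ⧸ v.asIdeal)
  obtain ⟨p, f, hp, hf, he⟩ := (isPrimePow_nat_iff _).1
    (FiniteField.isPrimePow_card (𝓞 K ⧸ v.asIdeal))
  rw [← Nat.card_eq_fintype_card] at he
  refine ⟨p, f, hp, hf, ?_, ?_⟩
  · rw [he, Ideal.absNorm_apply, Submodule.cardQuot_apply]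
  · refine v.isPrime.mem_of_pow_mem f ?_
    rw [← Nat.cast_pow, he, show Nat.card (𝓞 K ⧸ v.asIdeal) = Ideal.absNorm v.asIdeal by
      rw [Ideal.absNorm_apply, Submodule.cardQuot_apply]]
    exact Ideal.absNorm_mem v.asIdeal

theorem card_absNorm_fibre_le (n : ℕ) (s : Finset (HeightOneSpectrum (𝓞 K)))
    (hs : ∀ v ∈ s, Ideal.absNorm v.asIdeal = n) : s.card ≤ Module.finrank ℚ K := by
  rcases s.eq_empty_or_nonempty with rfl | ⟨v₀, hv₀⟩
  · simp
  obtain ⟨p, f, hp, hf, hn, -⟩ := exists_absNorm_eq_pow K v₀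
  rw [hs v₀ hv₀] at hn
  have hmem : ∀ v ∈ s, ((p : ℕ) : 𝓞 K) ∈ v.asIdeal := fun v hv => v.isPrime.mem_of_pow_mem f (by
    rw [← Nat.cast_pow, ← hn, ← hs v hv]
    exact Ideal.absNorm_mem v.asIdeal)
  have hdvd : ∏ v ∈ s.image HeightOneSpectrum.asIdeal, v ∣ Ideal.span {((p : ℕ) : 𝓞 K)} := by
    refine Finset.prod_primes_dvd _ (fun a ha => ?_) (fun a ha => ?_)
    · obtain ⟨v, -, rfl⟩ := Finset.mem_image.1 ha
      exact Ideal.prime_of_isPrime v.ne_bot v.isPrime
    · obtain ⟨v, hv, rfl⟩ := Finset.mem_image.1 ha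
      exact Ideal.dvd_span_singleton.2 (hmem v hv)
  have h := map_dvd (Ideal.absNorm (S := 𝓞 K)) hdvd
  rw [Finset.prod_image (fun a _ b _ h => HeightOneSpectrum.ext h), map_prod, Finset.prod_congr rfl hs,
    Finset.prod_const, hn, ← pow_mul, Ideal.absNorm_span_singleton,
    show ((p : ℕ) : 𝓞 K) = algebraMap ℤ (𝓞 K) (p : ℤ) by simp, Algebra.norm_algebraMap,
    Int.natAbs_pow, Int.natAbs_natCast, RingOfIntegers.rank] at h
  have h2 := (Nat.pow_dvd_pow_iff_le_right hp.one_lt).1 h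
  exact le_trans (Nat.le_mul_of_pos_left _ hf) h2

/-- The sum of `p ^ (-σ)` over the primes with a degree one factor diverges for `σ < 1`. -/
theorem not_summable_degreeOne (P : Set ℕ)
    (hP : ∀ v : HeightOneSpectrum (𝓞 K), (Ideal.absNorm v.asIdeal).Prime → Ideal.absNorm v.asIdeal ∈ P)
    (σ : ℝ) (hσ : σ < 1) : ¬ Summable (P.indicator fun p : ℕ => (p : ℝ) ^ (-σ)) := by
  intro hsum
  set τ : ℝ := max σ (3 / 4) with hτ
  have hτ1 : τ < 1 := max_lt hσ (by norm_num)
  have hτ0 : (3 : ℝ) / 4 ≤ τ := le_max_right _ _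
  set g : ℕ → ℝ := P.indicator fun p : ℕ => (p : ℝ) ^ (-τ) with hg
  have hg0 : ∀ n, 0 ≤ g n := fun n => Set.indicator_nonneg (fun i _ => by positivity) n
  have hgs : Summable g := hsum.of_nonneg_of_le hg0 fun n => by
    refine Set.indicator_le_indicator (f := fun p : ℕ => (p : ℝ) ^ (-τ)) ?_
    rcases Nat.eq_zero_or_pos n with rfl | hn
    · rw [Nat.cast_zero, Real.zero_rpow (by linarith)]
      exact Real.rpow_nonneg le_rfl _
    · exact Real.rpow_le_rpow_of_exponent_le (Nat.one_le_cast.2 hn) (neg_le_neg (le_max_left _ _))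
  let h : ℕ × Fin 2 → ℝ := fun a => (a.1 : ℝ) ^ (-(2 * τ))
  have hhs : Summable h := by
    have h1 : Summable fun n : ℕ => (n : ℝ) ^ (-(2 * τ)) := Real.summable_nat_rpow.2 (by linarith)
    have h2 := h1.mul_of_nonneg (Summable.of_finite (f := fun _ : Fin 2 => (1 : ℝ))) (fun n => by positivity)
      (fun _ => zero_le_one)
    exact h2.congr fun a => mul_one _
  have hh0 : ∀ a, 0 ≤ h a := fun a => by positivity
  set x : HeightOneSpectrum (𝓞 K) → ℝ := fun v => (Ideal.absNorm v.asIdeal : ℝ) ^ (-τ) with hx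
  have hxs : Summable x := by
    refine summable_of_sum_le (fun v => by positivity)
      (c := (Module.finrank ℚ K : ℝ) * (∑' n, g n + ∑' a, h a)) fun u => ?_
    let N : HeightOneSpectrum (𝓞 K) → ℕ := fun v => Ideal.absNorm v.asIdeal
    rw [← Finset.sum_fiberwise_of_maps_to (g := N) (t := u.image N) fun v hv => Finset.mem_image_of_mem N hv]
    refine le_trans (Finset.sum_le_sum (g := fun n : ℕ => (Module.finrank ℚ K : ℝ) * (n : ℝ) ^ (-τ)) fun n _ => ?_) ?_
    · rw [Finset.sum_congr rfl fun v hv => show x v = (n : ℝ) ^ (-τ) by rw [hx, ← (Finset.mem_filter.1 hv).2],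
        Finset.sum_const, nsmul_eq_mul]
      exact mul_le_mul_of_nonneg_right
        (Nat.cast_le.2 (card_absNorm_fibre_le K n _ fun v hv => (Finset.mem_filter.1 hv).2)) (by positivity)
    rw [← Finset.mul_sum]
    refine mul_le_mul_of_nonneg_left ?_ (Nat.cast_nonneg _)
    rw [← Finset.sum_filter_add_sum_filter_not _ Nat.Prime]
    refine add_le_add ?_ ?_
    · refine le_trans (le_of_eq (Finset.sum_congr rfl fun n hn => ?_)) (hgs.sum_le_tsum _ fun n _ => hg0 n)
      obtain ⟨hn, hnp⟩ := Finset.mem_filter.1 hn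
      obtain ⟨v, -, rfl⟩ := Finset.mem_image.1 hn
      rw [hg, Set.indicator_of_mem (hP v hnp)]
    · -- prime powers of exponent at least two
      set U := (u.image N).filter fun n => ¬ n.Prime
      have hU : ∀ n : ↥U, ∃ p f : ℕ, p.Prime ∧ 2 ≤ f ∧ (n : ℕ) = p ^ f := fun ⟨n, hn⟩ => by
        obtain ⟨hn, hnp⟩ := Finset.mem_filter.1 hn
        obtain ⟨v, -, rfl⟩ := Finset.mem_image.1 hn
        obtain ⟨p, f, hp, hf, he, -⟩ := exists_absNorm_eq_pow K v
        refine ⟨p, f, hp, ?_, he⟩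
        by_contra hlt
        obtain rfl : f = 1 := by omega
        exact hnp (by show (Ideal.absNorm v.asIdeal).Prime; rw [he, pow_one]; exact hp)
      choose p f hp hf he using hU
      let φ : ↥U → ℕ × Fin 2 := fun n => (p n ^ (f n / 2), ⟨f n % 2, Nat.mod_lt _ two_pos⟩)
      have hφ : Function.Injective φ := fun m n e => by
        simp only [φ, Prod.mk.injEq, Fin.mk.injEq] at e
        have hm : (p m).Prime := hp m
        have hpe : p m = p n := by
          refine (Nat.prime_dvd_prime_iff_eq hm (hp n)).1 (hm.dvd_of_dvd_pow (n := f n / 2) ?_)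
          rw [← e.1]
          exact dvd_pow_self _ (by have := hf m; omega)
        rw [← hpe] at e
        have := Nat.pow_right_injective hm.two_le e.1
        have hfe : f m = f n := by have := e.2; omega
        exact Subtype.ext (by rw [he m, he n, hpe, hfe])
      rw [← Finset.sum_coe_sort]
      refine le_trans ?_ (le_trans (le_of_eq (Finset.sum_map Finset.univ ⟨φ, hφ⟩ h).symm)
        (hhs.sum_le_tsum _ fun a _ => hh0 a))
      refine Finset.sum_le_sum fun n _ => ?_
      show ((n : ℕ) : ℝ) ^ (-τ) ≤ ((p n ^ (f n / 2) : ℕ) : ℝ) ^ (-(2 * τ))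
      have hp1 : (1 : ℝ) ≤ (p n : ℝ) := Nat.one_le_cast.2 (hp n).one_le
      rw [he n, Nat.cast_pow, Nat.cast_pow, ← Real.rpow_natCast, ← Real.rpow_mul (by linarith),
        ← Real.rpow_natCast, ← Real.rpow_mul (by linarith)]
      refine Real.rpow_le_rpow_of_exponent_le hp1 ?_
      have h2 : ((2 * (f n / 2) : ℕ) : ℝ) ≤ (f n : ℝ) := Nat.cast_le.2 (Nat.mul_div_le _ _)
      push_cast at h2
      nlinarith
  -- count ideals
  have hS := Zeta.summable_finsupp_prod (x := x) (fun v => by positivity) (ρ := (2 : ℝ) ^ (-τ))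
    (Real.rpow_lt_one_of_one_lt_of_neg one_lt_two (by linarith))
    (fun v => Real.rpow_le_rpow_of_nonpos two_pos (by exact_mod_cast two_le_absNorm K v) (by linarith)) hxs
  set S := ∑' α : HeightOneSpectrum (𝓞 K) →₀ ℕ, α.prod fun i m => x i ^ m
  have hcount : ∀ t : ℝ, 0 < t →
      (Nat.card {I : (Ideal (𝓞 K))⁰ // Ideal.absNorm (I : Ideal (𝓞 K)) ≤ t} : ℝ) ≤ t ^ τ * S := by
    intro t ht
    set T := {I : (Ideal (𝓞 K))⁰ // Ideal.absNorm (I : Ideal (𝓞 K)) ≤ t}
    rcases finite_or_infinite T with hfin | hinf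
    swap
    · rw [Nat.card_eq_zero_of_infinite, Nat.cast_zero]
      exact mul_nonneg (by positivity) (tsum_nonneg fun α => Finset.prod_nonneg fun v _ => by positivity)
    haveI := Fintype.ofFinite T
    choose α hα using fun I : T => exists_finsupp_prod_eq K (I.1 : Ideal (𝓞 K)) (nonZeroDivisors.ne_zero I.1.2)
    have hinj : Function.Injective α := fun I J e => by
      refine Subtype.ext (Subtype.ext ?_)
      rw [← hα I, ← hα J, e]
    have hone : ∀ I : T, 1 ≤ t ^ τ * (α I).prod fun v m => x v ^ m := fun I => by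
      have hNI : ((α I).prod fun v m => x v ^ m) = (Ideal.absNorm (I.1 : Ideal (𝓞 K)) : ℝ) ^ (-τ) := by
        have hpos : ∀ v : HeightOneSpectrum (𝓞 K), (0 : ℝ) ≤ (Ideal.absNorm v.asIdeal : ℝ) := fun v => Nat.cast_nonneg _
        conv_rhs => rw [← hα I, Finsupp.prod, map_prod, Nat.cast_prod]
        rw [← Real.finsetProd_rpow _ _ (fun v _ => Nat.cast_nonneg _), Finsupp.prod]
        refine Finset.prod_congr rfl fun v _ => ?_
        rw [map_pow, Nat.cast_pow, hx, ← Real.rpow_natCast, ← Real.rpow_mul (hpos v), mul_comm,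
          Real.rpow_mul (hpos v), Real.rpow_natCast]
      have hN0 : (0 : ℝ) < (Ideal.absNorm (I.1 : Ideal (𝓞 K)) : ℝ) :=
        Nat.cast_pos.2 (Nat.pos_of_ne_zero fun h => nonZeroDivisors.ne_zero I.1.2 (Ideal.absNorm_eq_zero_iff.1 h))
      rw [hNI, Real.rpow_neg hN0.le, ← div_eq_mul_inv, one_le_div (by positivity)]
      exact Real.rpow_le_rpow hN0.le I.2 (by linarith)
    rw [Nat.card_eq_fintype_card, Fintype.card, Finset.cast_card]
    refine (Finset.sum_le_sum fun I _ => hone I).trans ?_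
    rw [← Finset.mul_sum]
    refine mul_le_mul_of_nonneg_left ?_ (by positivity)
    rw [← Finset.sum_image (s := Finset.univ) (f := fun β : HeightOneSpectrum (𝓞 K) →₀ ℕ => β.prod fun v m => x v ^ m)
      (g := α) hinj.injOn]
    exact hS.sum_le_tsum _ fun β _ => Finset.prod_nonneg fun v _ => by positivity
  have hlim := Ideal.tendsto_norm_le_div_atTop₀ K
  rw [← dedekindZeta_residue_def] at hlim
  have h0 : Tendsto (fun t : ℝ => S * t ^ (-(1 - τ))) atTop (𝓝 0) := by
    have := (tendsto_rpow_neg_atTop (by linarith : (0 : ℝ) < 1 - τ)).const_mul S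
    rwa [mul_zero] at this
  have hle : ∀ᶠ t : ℝ in atTop,
      (Nat.card {I : (Ideal (𝓞 K))⁰ // Ideal.absNorm (I : Ideal (𝓞 K)) ≤ t} : ℝ) / t ≤ S * t ^ (-(1 - τ)) := by
    filter_upwards [eventually_gt_atTop 0] with t ht
    rw [div_le_iff₀ ht, mul_assoc, mul_comm S]
    refine (hcount t ht).trans_eq ?_
    rw [show τ = -(1 - τ) + 1 by ring, Real.rpow_add ht, Real.rpow_one]
    ring_nf
  exact (dedekindZeta_residue_pos K).not_ge (le_of_tendsto_of_tendsto hlim h0 hle)

end GrothLib.LangWeil28
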