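import Groth.Agent.Lib.LangWeil28.IntDomain
import Groth.Agent.Lib.LangWeil28.Abscissa
import Groth.Agent.Lib.Zeta.ArithInt
import Groth.Agent.Lib.Altitude.Basic
import Mathlib.RingTheory.KrullDimension.PID
import Mathlib.AlgebraicGeometry.AffineSpace

/-!
# The abscissa of the zeta function of an arithmetic scheme
-/

set_option autoImplicit false
set_option linter.all false

universe u

open CategoryTheory CategoryTheory.Limits AlgebraicGeometry Filter TopologicalSpace
open scoped Classical Topology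

namespace GrothLib.LangWeil28

variable {X : Scheme.{u}} (f : X ⟶ Spec (CommRingCat.of (ULift.{u} ℤ))) [LocallyOfFiniteType f]
  [QuasiCompact f]

variable (r : ℕ) (hr : topologicalKrullDim X ≤ r)

include f hr in
theorem finite_cycles_int (n : ℕ) (hn : n ≠ 0) :
    Finite {β : Zeta.ClPts X →₀ ℕ // β.prod (fun x m => Zeta.ptNorm x ^ m) = n} := by
  haveI : CompactSpace X := QuasiCompact.compactSpace_of_compactSpace f
  obtain ⟨c, p₀, hfib'⟩ := Zeta.exists_bound_fibre f r hr
  have hfib : ∀ j : ℕ, Finite {x : Zeta.ClPts X // Zeta.ptNorm x = j} := fun j => (hfib' j).1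
  let S : Set (Zeta.ClPts X) := {x | Zeta.ptNorm x ≤ n}
  have hS : S.Finite := by
    have : S = ⋃ j ∈ (Finset.range (n + 1) : Finset ℕ), {x : Zeta.ClPts X | Zeta.ptNorm x = j} := by
      ext x; simp [S, Nat.lt_succ_iff]
    rw [this]
    exact Set.Finite.biUnion (Finset.finite_toSet _) fun j _ => Set.finite_coe_iff.mp (hfib j)
  haveI := hS.to_subtype
  have hb : ∀ (β : {β : Zeta.ClPts X →₀ ℕ // β.prod (fun x m => Zeta.ptNorm x ^ m) = n}) (x : Zeta.ClPts X),
      x ∈ β.1.support → β.1 x ≤ n ∧ Zeta.ptNorm x ≤ n := fun β x hx => by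
    have hdvd : Zeta.ptNorm x ^ β.1 x ∣ n :=
      (Finset.dvd_prod_of_mem (fun y => Zeta.ptNorm y ^ β.1 y) hx).trans (dvd_of_eq β.2)
    have h1 := Nat.le_of_dvd (Nat.pos_of_ne_zero hn) hdvd
    have h2 := Zeta.two_le_ptNorm f x
    exact ⟨((Nat.lt_pow_self (by omega : 1 < Zeta.ptNorm x)).le).trans h1,
      (Nat.le_self_pow (Finsupp.mem_support_iff.1 hx) _).trans h1⟩
  refine Finite.of_injective (fun (β : {β : Zeta.ClPts X →₀ ℕ // β.prod (fun x m => Zeta.ptNorm x ^ m) = n})
    (x : S) => (⟨min (β.1 x.1) n, Nat.lt_succ_of_le (min_le_right _ _)⟩ : Fin (n + 1))) fun α β h => ?_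
  refine Subtype.ext (Finsupp.ext fun x => ?_)
  have hle : ∀ γ : {β : Zeta.ClPts X →₀ ℕ // β.prod (fun x m => Zeta.ptNorm x ^ m) = n}, γ.1 x ≤ n := fun γ => by
    by_cases hγ : x ∈ γ.1.support
    · exact (hb γ x hγ).1
    · rw [Finsupp.notMem_support_iff.1 hγ]; exact Nat.zero_le _
  by_cases hx : x ∈ α.1.support ∨ x ∈ β.1.support
  · have hxS : x ∈ S := hx.elim (fun h => (hb α x h).2) (fun h => (hb β x h).2)
    have h' := congrArg Fin.val (congrFun h ⟨x, hxS⟩)
    simp only [min_eq_left (hle α), min_eq_left (hle β)] at h'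
    exact h'
  · push Not at hx
    rw [Finsupp.notMem_support_iff.1 hx.1, Finsupp.notMem_support_iff.1 hx.2]

include f hr in
/-- The coefficients do not decrease from a closed subscheme. -/
theorem cycleNormCount_le {Y : Scheme.{u}} (ι : Y ⟶ X) [IsClosedImmersion ι] (n : ℕ) (hn : n ≠ 0) :
    _root_.Zeta.cycleNormCount Y n ≤ _root_.Zeta.cycleNormCount X n := by
  haveI := finite_cycles_int f r hr n hn
  haveI := Finite.of_equiv _ (Zeta.cyclesEquiv X n).symm
  have hcard : ∀ y : Y, Nat.card (Y.residueField y) = Nat.card (X.residueField (ι y)) := fun y =>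
    (Nat.card_eq_of_bijective (ι.residueFieldMap y).hom
      ⟨RingHom.injective _, AffDom.residueFieldMap_surjective ι y⟩).symm
  have hinj : Function.Injective ι := ι.isEmbedding.injective
  let Φ : (Y →₀ ℕ) → (X →₀ ℕ) := fun α => α.embDomain ⟨ι, hinj⟩
  have hcl : ∀ α : Y →₀ ℕ, (∀ y ∈ α.support, IsClosed ({y} : Set Y)) →
      ∀ x ∈ (Φ α).support, IsClosed ({x} : Set X) := fun α hα x hx => by
    rw [Finsupp.support_embDomain] at hx
    obtain ⟨y, hy, rfl⟩ := Finset.mem_map.mp hx
    show IsClosed ({ι y} : Set X)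
    rw [← Set.image_singleton]
    exact ι.isClosedEmbedding.isClosedMap _ (hα y hy)
  have hprod : ∀ α : Y →₀ ℕ, (Φ α).prod (fun x m => Nat.card (X.residueField x) ^ m) =
      α.prod fun y m => Nat.card (Y.residueField y) ^ m := fun α => by
    rw [Finsupp.prod_embDomain]
    exact Finsupp.prod_congr fun y _ => congrArg (· ^ α y) (hcard y).symm
  exact Nat.card_le_card_of_injective
    (fun α : {α : Y →₀ ℕ // (∀ x ∈ α.support, IsClosed ({x} : Set Y)) ∧
      α.prod (fun x m => Nat.card (Y.residueField x) ^ m) = n} =>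
      (⟨Φ α.1, hcl α.1 α.2.1, (hprod α.1).trans α.2.2⟩ : {α : X →₀ ℕ // (∀ x ∈ α.support, IsClosed ({x} : Set X)) ∧
        α.prod (fun x m => Nat.card (X.residueField x) ^ m) = n}))
    fun α β h => Subtype.ext (Finsupp.embDomain_injective _ (congrArg Subtype.val h))

include f hr in
theorem natCard_norm_le (p : ℕ) (hp : p.Prime) :
    Nat.card {x : Zeta.ClPts X // Zeta.ptNorm x = p} ≤ _root_.Zeta.cycleNormCount X p := by
  haveI := finite_cycles_int f r hr p hp.ne_zero
  rw [_root_.Zeta.cycleNormCount, Nat.card_congr (Zeta.cyclesEquiv X p)]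
  refine Nat.card_le_card_of_injective (fun x => ⟨Finsupp.single x.1 1, by
    rw [Finsupp.prod_single_index (by rw [pow_zero]), pow_one]; exact x.2⟩) fun x y h => ?_
  exact Subtype.ext ((Finsupp.single_left_injective one_ne_zero) (congrArg Subtype.val h))

/-- The dimension of a domain of finite type over the integers. -/
theorem ringKrullDim_le_trdeg_succ (A : Type u) [CommRing A] [IsDomain A] [Algebra.FiniteType ℤ A] [CharZero A]
    (t : ℕ) (ht : Algebra.trdeg ℤ A = t) : ringKrullDim A ≤ ((t + 1 : ℕ) : WithBot ℕ∞) := by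
  obtain ⟨Z, _, ⟨eZ⟩⟩ : ∃ (Z : Type u) (_ : CommRing Z), Nonempty (Z ≃+* ℤ) :=
    ⟨ULift.{u} ℤ, inferInstance, ⟨ULift.ringEquiv⟩⟩
  letI : Algebra Z A := ((algebraMap ℤ A).comp eZ.toRingHom).toAlgebra
  haveI : IsScalarTower ℤ Z A := IsScalarTower.of_algebraMap_eq' (RingHom.ext_int _ _)
  haveI : Algebra.FiniteType Z A := Algebra.FiniteType.of_restrictScalars_finiteType ℤ _ _
  have hinj : Function.Injective (algebraMap Z A) :=
    (algebraMap ℤ A).injective_int.comp eZ.injective
  haveI : FaithfulSMul Z A := (faithfulSMul_iff_algebraMap_injective Z A).2 hinj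
  haveI : IsPrincipalIdealRing Z :=
    IsPrincipalIdealRing.of_surjective eZ.symm.toRingHom eZ.symm.surjective
  haveI : IsDomain Z := eZ.isDomain_iff.2 inferInstance
  haveI : IsNoetherianRing Z := inferInstance
  haveI : CharZero Z := charZero_of_injective_ringHom (f := eZ.symm.toRingHom) eZ.symm.injective
  have htZ : Algebra.trdeg Z A = t := by
    haveI : Algebra.IsAlgebraic ℤ Z := ⟨fun z => by
      have hz : z = algebraMap ℤ Z (eZ z) := by
        rw [show algebraMap ℤ Z = eZ.symm.toRingHom from RingHom.ext_int _ _]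
        exact (eZ.symm_apply_apply z).symm
      rw [hz]
      exact isAlgebraic_algebraMap (eZ z)⟩
    haveI : FaithfulSMul ℤ Z := (faithfulSMul_iff_algebraMap_injective ℤ Z).2 (algebraMap ℤ Z).injective_int
    have h := trdeg_add_eq ℤ Z (A := A)
    rw [trdeg_eq_zero (R := ℤ) (A := Z)] at h
    simpa [ht] using h
  have hdimZ : ringKrullDim Z = 1 :=
    IsPrincipalIdealRing.ringKrullDim_eq_one Z fun hF =>
      Int.not_isField (eZ.symm.toMulEquiv.isField hF)
  rw [ringKrullDim_le_iff_height_le]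
  intro P hP
  haveI : P.LiesOver (P.under Z) := ⟨rfl⟩
  obtain ⟨t', s, ht', -, hle, -⟩ := Altitude.height_add_trdeg Z A (P.under Z) P
  have htt : t' = t := by rw [htZ] at ht'; exact (Nat.cast_injective ht').symm
  subst htt
  have h1 : (P.under Z).height ≤ 1 := by
    have := Ideal.height_le_ringKrullDim_of_isPrime (I := P.under Z)
    rw [hdimZ] at this
    exact_mod_cast this
  have h2 : P.height ≤ ((t' + 1 : ℕ) : ℕ∞) := by
    refine le_self_add.trans (hle.trans ?_)
    push_cast
    rw [add_comm (t' : ℕ∞)]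
    exact add_le_add h1 le_rfl
  exact_mod_cast h2

include f in
theorem not_summable_int (r : ℕ) (hr : topologicalKrullDim X = r) (s : ℝ) (hs : s < r) :
    ¬ LSeriesSummable (_root_.Zeta.arithCoeff X) (s : ℂ) := by
  intro hsum
  haveI : CompactSpace X := QuasiCompact.compactSpace_of_compactSpace f
  have hnorm : Summable fun n => ‖LSeries.term (_root_.Zeta.arithCoeff X) (s : ℂ) n‖ := hsum.norm
  have hterm : ∀ n : ℕ, n ≠ 0 → ‖LSeries.term (_root_.Zeta.arithCoeff X) (s : ℂ) n‖ =
      (_root_.Zeta.cycleNormCount X n : ℝ) / (n : ℝ) ^ s := fun n hn => by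
    rw [LSeries.norm_term_eq, if_neg hn, Complex.ofReal_re]
    simp [_root_.Zeta.arithCoeff]
  have hr' : topologicalKrullDim (Set.univ : Set X) = r :=
    ((Homeomorph.Set.univ X).isHomeomorph.topologicalKrullDim_eq _).trans hr
  obtain ⟨Z, hZ, -, hdZ⟩ := exists_component_subset isClosed_univ r hr.le hr'.ge
  rcases lt_or_ge s 0 with hs0 | hs0
  · obtain ⟨x, -, hx⟩ := isClosed_univ.exists_closed_singleton ⟨hZ.1.nonempty.some, Set.mem_univ _⟩
    set N := Zeta.ptNorm (⟨x, hx⟩ : Zeta.ClPts X)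
    have hN2 : 2 ≤ N := Zeta.two_le_ptNorm f ⟨x, hx⟩
    have hge : ∀ j : ℕ, (1 : ℝ) ≤ ‖LSeries.term (_root_.Zeta.arithCoeff X) (s : ℂ) (N ^ j)‖ := fun j => by
      have hN0 : N ^ j ≠ 0 := pow_ne_zero _ (by omega)
      rw [hterm _ hN0, le_div_iff₀ (Real.rpow_pos_of_pos (Nat.cast_pos.2 (Nat.pos_of_ne_zero hN0)) _), one_mul]
      refine (Real.rpow_le_one_of_one_le_of_nonpos (Nat.one_le_cast.2 (Nat.pos_of_ne_zero hN0)) hs0.le).trans ?_
      haveI := finite_cycles_int f r hr.le _ hN0
      haveI : Nonempty {β : Zeta.ClPts X →₀ ℕ // β.prod (fun x m => Zeta.ptNorm x ^ m) = N ^ j} :=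
        ⟨⟨Finsupp.single ⟨x, hx⟩ j, Finsupp.prod_single_index (pow_zero _)⟩⟩
      rw [Nat.one_le_cast, _root_.Zeta.cycleNormCount, Nat.card_congr (Zeta.cyclesEquiv X _)]
      exact Nat.card_pos
    have := le_of_tendsto_of_tendsto' tendsto_const_nhds
      (hnorm.tendsto_atTop_zero.comp (tendsto_pow_atTop_atTop_of_one_lt (by omega : 1 < N))) hge
    linarith
  have hr1 : 1 ≤ r := Nat.one_le_iff_ne_zero.2 fun h0 => by rw [h0, Nat.cast_zero] at hs; linarith
  -- the reduced component
  let I := Scheme.IdealSheafData.vanishingIdeal (⟨Z, isClosed_of_mem_irreducibleComponents Z hZ⟩ : Closeds X)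
  let Z0 := I.subscheme
  let ι : Z0 ⟶ X := I.subschemeι
  have hrange : Set.range ι = Z := RedSub.range_subschemeι_vanishingIdeal _
  haveI : AlgebraicGeometry.IsReduced Z0 := RedSub.isReduced_subscheme_vanishingIdeal _
  haveI : IrreducibleSpace (Set.range ι) := by rw [hrange]; exact Subtype.irreducibleSpace hZ.1
  haveI : IrreducibleSpace Z0 :=
    Function.Surjective.irreducibleSpace (f := (ι.isEmbedding.toHomeomorph).symm)
      (Homeomorph.continuous _) (Homeomorph.surjective _)
  haveI : IsIntegral Z0 := (isIntegral_iff_irreducibleSpace_and_isReduced _).2 ⟨‹_›, ‹_›⟩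
  have hdim0 : topologicalKrullDim Z0 = r := by
    rw [Dim.IsEmbedding.topologicalKrullDim_eq ι.isEmbedding hrange, hdZ]
  -- a large affine open
  obtain ⟨V, hV, hne, hVdim⟩ : ∃ V : Z0.Opens, IsAffineOpen V ∧ Nonempty V ∧
      (r : WithBot ℕ∞) ≤ ringKrullDim Γ(Z0, V) := by
    by_contra hcon
    push Not at hcon
    have : topologicalKrullDim Z0 ≤ ((r - 1 : ℕ) : WithBot ℕ∞) := by
      refine Dim.topologicalKrullDim_le_of_cover (fun W : {W : Z0.Opens // IsAffineOpen W} => W.1) (fun y => ?_)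
        fun W => ?_
      · obtain ⟨_, ⟨W, hW, rfl⟩, hyW, -⟩ :=
          Z0.isBasis_affineOpens.exists_subset_of_mem_open (Set.mem_univ y) isOpen_univ
        exact ⟨⟨W, hW⟩, hyW⟩
      · rcases isEmpty_or_nonempty W.1 with h | h
        · have : IsEmpty (IrreducibleCloseds (W.1 : Set Z0)) := ⟨fun T => h.elim T.isIrreducible.nonempty.some⟩
          exact le_of_eq_of_le Order.krullDim_eq_bot bot_le
        · have := hcon W.1 W.2 h
          refine (Dim.topologicalKrullDim_affineOpen W.2).le.trans ?_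
          rcases hd : ringKrullDim Γ(Z0, W.1) with _ | _ | d
          · exact bot_le
          · rw [hd] at this; exact absurd le_top this.not_ge
          · rw [hd] at this
            have : d < r := Nat.cast_lt.1 this
            exact Nat.cast_le.2 (show d ≤ r - 1 by omega)
    rw [hdim0] at this
    have := Nat.cast_le.1 this
    omega
  haveI := hne
  haveI : IsOpenImmersion hV.fromSpec := hV.isOpenImmersion_fromSpec
  haveI hftA : Algebra.FiniteType ℤ Γ(Z0, V) := Zeta.finiteType_int_of_specMap (hV.fromSpec ≫ ι ≫ f)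
  rcases CharP.exists Γ(Z0, V) with ⟨p, hp⟩
  rcases eq_or_ne p 0 with rfl | hp0
  swap
  · -- a scheme over a prime field
    haveI : Fact p.Prime := ⟨(CharP.char_is_prime_or_zero Γ(Z0, V) p).resolve_right hp0⟩
    haveI : CharP Γ(Z0, ⊤) p := by
      have hres : Function.Injective (Z0.presheaf.map (homOfLE (le_top : V ≤ ⊤)).op).hom :=
        map_injective_of_isIntegral Z0 (homOfLE (le_top : V ≤ ⊤))
      exact (RingHom.charP_iff _ hres p).2 hp
    let k := ULift.{u} (ZMod p)
    let g : Z0 ⟶ Spec (CommRingCat.of k) := Z0.toSpecΓ ≫ Spec.map (CommRingCat.ofHom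
      ((ZMod.castHom dvd_rfl Γ(Z0, ⊤)).comp (ULift.ringEquiv : k ≃+* ZMod p).toRingHom))
    let h : Spec (CommRingCat.of k) ⟶ Spec (CommRingCat.of (ULift.{u} ℤ)) :=
      Spec.map (CommRingCat.ofHom (((ULift.ringEquiv : k ≃+* ZMod p).symm.toRingHom.comp
        (Int.castRingHom (ZMod p))).comp (ULift.ringEquiv : ULift.{u} ℤ ≃+* ℤ).toRingHom))
    have hgh : g ≫ h = ι ≫ f := specULiftZIsTerminal.hom_ext _ _
    haveI : LocallyOfFiniteType (g ≫ h) := by rw [hgh]; infer_instance
    haveI : LocallyOfFiniteType g := locallyOfFiniteType_of_comp g h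
    haveI : CompactSpace Z0 := ι.isClosedEmbedding.compactSpace
    haveI : QuasiCompact g := (quasiCompact_iff_compactSpace _).2 inferInstance
    refine not_summable g r hdim0 s hs ?_
    refine Summable.of_norm_bounded hnorm fun n => ?_
    rcases eq_or_ne n 0 with rfl | hn
    · simp [LSeries.term_zero]
    rw [hterm n hn, LSeries.norm_term_eq, if_neg hn, Complex.ofReal_re]
    simp only [_root_.Zeta.arithCoeff, Complex.norm_natCast]
    exact div_le_div_of_nonneg_right (Nat.cast_le.2 (cycleNormCount_le f r hr.le ι n hn))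
      (Real.rpow_nonneg (Nat.cast_nonneg n) _)
  -- mixed characteristic
  haveI : CharZero Γ(Z0, V) := CharP.charP_to_charZero Γ(Z0, V)
  obtain ⟨t, ht⟩ := Cardinal.lt_aleph0.1 (trdeg_lt_aleph0_of_finiteType (R := ℤ) (S := Γ(Z0, V)))
  have hrt : r ≤ t + 1 := by
    have := hVdim.trans (ringKrullDim_le_trdeg_succ _ t ht)
    exact_mod_cast this
  obtain ⟨P, hP, hpts⟩ := exists_points_lower Γ(Z0, V) t ht
  refine hP (s - t) (by have : (r : ℝ) ≤ (t : ℝ) + 1 := by exact_mod_cast hrt
                        linarith) ?_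
  refine Summable.of_nonneg_of_le (fun n => Set.indicator_nonneg (fun i _ => by positivity) n) (fun n => ?_)
    (hnorm.mul_left 2)
  by_cases hnP : n ∈ P
  swap
  · rw [Set.indicator_of_notMem hnP]; positivity
  obtain ⟨hnp, F, _, hF, hfin, hcount⟩ := hpts n hnP
  rw [Set.indicator_of_mem hnP, hterm n hnp.ne_zero]
  haveI : Finite F := Nat.finite_of_card_ne_zero (by rw [hF]; exact hnp.ne_zero)
  haveI : Fact n.Prime := ⟨hnp⟩
  letI := Fintype.ofFinite F
  haveI : CharP F n := Zeta.charP_of_natCard F hnp (m := 1) (by rw [hF, pow_one])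
  haveI : IsJacobsonRing (ULift.{u} ℤ) :=
    (isJacobsonRing_iso (ULift.ringEquiv : ULift.{u} ℤ ≃+* ℤ)).2 Zeta.isJacobsonRing_int
  haveI : JacobsonSpace X := LocallyOfFiniteType.jacobsonSpace f
  have hint : Function.Surjective (Int.castRingHom F) := fun a => by
    have hb : Function.Bijective (ZMod.castHom (dvd_refl n) F) :=
      ZMod.castHom_bijective F (by rw [← Nat.card_eq_fintype_card, hF])
    obtain ⟨z, rfl⟩ := hb.2 a
    obtain ⟨m, rfl⟩ := ZMod.intCast_surjective z
    exact ⟨m, by simp⟩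
  have hsurj : ∀ φ : Γ(Z0, V) →+* F, Function.Surjective φ := fun φ a => by
    obtain ⟨m, rfl⟩ := hint a
    exact ⟨m, by simp⟩
  let y : (Γ(Z0, V) →+* F) → PrimeSpectrum Γ(Z0, V) := fun φ => ⟨RingHom.ker φ, RingHom.ker_isPrime φ⟩
  let x : (Γ(Z0, V) →+* F) → X := fun φ => ι (hV.fromSpec (y φ))
  have hxinj : Function.Injective x := fun φ φ' e => by
    have e1 : RingHom.ker φ = RingHom.ker φ' :=
      congrArg PrimeSpectrum.asIdeal (hV.fromSpec.isEmbedding.injective (ι.isEmbedding.injective e))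
    refine RingHom.ext fun a => ?_
    obtain ⟨m, hm⟩ := hint (φ a)
    have : a - m ∈ RingHom.ker φ := by rw [RingHom.mem_ker, map_sub, map_intCast, ← hm]; simp
    rw [e1, RingHom.mem_ker, map_sub, map_intCast, sub_eq_zero] at this
    rw [this, ← hm]
    simp
  have hxcl : ∀ φ, IsClosed ({x φ} : Set X) := fun φ => by
    have h1 : IsClosed ({y φ} : Set (PrimeSpectrum Γ(Z0, V))) := by
      rw [PrimeSpectrum.isClosed_singleton_iff_isMaximal]
      exact RingHom.ker_isMaximal_of_surjective φ (hsurj φ)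
    haveI : JacobsonSpace Z0 := LocallyOfFiniteType.jacobsonSpace (ι ≫ f)
    have h2 : IsClosed ({hV.fromSpec (y φ)} : Set Z0) := by
      refine isClosed_singleton_of_isLocallyClosed_singleton ?_
      rw [← Set.image_singleton]
      exact h1.isLocallyClosed.image hV.fromSpec.isEmbedding.isInducing
        hV.fromSpec.isOpenEmbedding.isOpen_range.isLocallyClosed
    show IsClosed ({ι _} : Set X)
    rw [← Set.image_singleton]
    exact ι.isClosedEmbedding.isClosedMap _ h2
  have hxn : ∀ φ, Zeta.ptNorm (⟨x φ, hxcl φ⟩ : Zeta.ClPts X) = n := fun φ => by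
    let G : Spec (CommRingCat.of F) ⟶ X := Spec.map (CommRingCat.ofHom φ) ≫ hV.fromSpec ≫ ι
    obtain ⟨⟨x', ψ⟩, hG⟩ : ∃ q, (Scheme.SpecToEquivOfField F X).symm q = G :=
      (Scheme.SpecToEquivOfField F X).symm.surjective G
    have hx' : G (IsLocalRing.closedPoint F) = x' := by
      rw [← hG]
      exact X.fromSpecResidueField_apply x' _
    have hxφ : G (IsLocalRing.closedPoint F) = x φ := by
      show ι (hV.fromSpec (Spec.map (CommRingCat.ofHom φ) (IsLocalRing.closedPoint F))) = _
      congr 2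
      exact PrimeSpectrum.ext (by
        show Ideal.comap φ (IsLocalRing.maximalIdeal F) = RingHom.ker φ
        rw [IsLocalRing.maximalIdeal_eq_bot]
        rfl)
    rw [hxφ] at hx'
    haveI := Zeta.finite_residueField f (hxcl φ)
    show Nat.card (X.residueField (x φ)) = n
    subst hx'
    refine le_antisymm (hF ▸ Nat.card_le_card_of_injective ψ.hom ψ.hom.injective) ?_
    rw [← hF]
    refine Nat.card_le_card_of_surjective ψ.hom fun a => ?_
    obtain ⟨m, rfl⟩ := hint a
    exact ⟨m, by simp⟩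
  haveI : Finite {z : Zeta.ClPts X // Zeta.ptNorm z = n} := by
    haveI := finite_cycles_int f r hr.le n hnp.ne_zero
    refine Finite.of_injective (β := {β : Zeta.ClPts X →₀ ℕ // β.prod (fun x m => Zeta.ptNorm x ^ m) = n})
      (fun z => ⟨Finsupp.single z.1 1, by
        rw [Finsupp.prod_single_index (by rw [pow_zero]), pow_one]; exact z.2⟩) fun a b h => ?_
    exact Subtype.ext ((Finsupp.single_left_injective one_ne_zero) (congrArg Subtype.val h))
  have hle : (Nat.card (Γ(Z0, V) →+* F) : ℝ) ≤ (_root_.Zeta.cycleNormCount X n : ℝ) :=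
    Nat.cast_le.2 ((Nat.card_le_card_of_injective
      (fun φ => (⟨⟨x φ, hxcl φ⟩, hxn φ⟩ : {z : Zeta.ClPts X // Zeta.ptNorm z = n}))
      fun a b h => hxinj (congrArg (fun z => (z.1 : X)) h)).trans (natCard_norm_le f r hr.le n hnp))
  have hn0 : (0 : ℝ) < n := Nat.cast_pos.2 hnp.pos
  rw [show -(s - (t : ℝ)) = (t : ℝ) - s by ring, Real.rpow_sub hn0, Real.rpow_natCast, ← mul_div_assoc]
  exact div_le_div_of_nonneg_right (by linarith) (Real.rpow_nonneg hn0.le _)

include f in
theorem abscissa_eq_int (r : ℕ) (hr : topologicalKrullDim X = r) :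
    LSeries.abscissaOfAbsConv (_root_.Zeta.arithCoeff X) = (r : ℝ) := by
  refine le_antisymm (LSeries.abscissaOfAbsConv_le_of_forall_lt_LSeriesSummable fun y hy =>
    (Zeta.summable_and_ne_zero_int f r hr.le (y : ℂ) (by simpa using hy)).1) (le_of_not_gt fun hlt => ?_)
  obtain ⟨s, hs1, hs2⟩ := EReal.exists_between_coe_real hlt
  exact not_summable_int f r hr s (EReal.coe_lt_coe_iff.1 hs2)
    (LSeriesSummable_of_abscissaOfAbsConv_lt_re (by simpa using hs1))

end GrothLib.LangWeil28
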