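import Groth.Agent.Lib.LangWeil28.Step
import Groth.Agent.Lib.FunFld.Separating
import Groth.Agent.Lib.FunFld.AbsIrred
import Mathlib.FieldTheory.SeparablyGenerated
import Mathlib.FieldTheory.AlgebraicClosure
import Mathlib.FieldTheory.PrimitiveElement
import Mathlib.RingTheory.AlgebraicIndependent.AlgebraicClosure

/-!
# The point count of a geometrically integral model
-/

set_option autoImplicit false
set_option linter.all false
set_option backward.isDefEq.respectTransparency false

universe u

open Polynomial Polynomial.Bivariate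

namespace GrothLib.LangWeil28

theorem irreducible_algebraicClosure {σ : Type} {k : Type u} [Field k] (f : MvPolynomial σ k)
    (h : ∀ (k' : Type u) [Field k'] [Algebra k k'], FiniteDimensional k k' →
      Irreducible (MvPolynomial.map (algebraMap k k') f)) :
    Irreducible (MvPolynomial.map (algebraMap k (AlgebraicClosure k)) f) := by
  classical
  let Ω := AlgebraicClosure k
  have key : ∀ (s : Finset Ω) (u : MvPolynomial σ Ω), (∀ m, u.coeff m ∈ IntermediateField.adjoin k (s : Set Ω)) →
      ∃ u', MvPolynomial.map (algebraMap (IntermediateField.adjoin k (s : Set Ω)) Ω) u' = u := fun s u hu => by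
    have : u ∈ Set.range (MvPolynomial.map (σ := σ) (algebraMap (IntermediateField.adjoin k (s : Set Ω)) Ω)) :=
      MvPolynomial.mem_range_map_iff_coeffs_subset.2 fun c hc => by
        obtain ⟨m, -, rfl⟩ := MvPolynomial.mem_coeffs_iff.1 hc
        exact ⟨⟨_, hu m⟩, rfl⟩
    exact this
  have hf0 : Irreducible f := by simpa [Algebra.algebraMap_self, MvPolynomial.map_id] using h k inferInstance
  refine ⟨fun hu => hf0.not_isUnit ?_, fun u v huv => ?_⟩
  · obtain ⟨r, hr, hc⟩ := MvPolynomial.isUnit_iff_eq_C_of_isReduced.1 hu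
    have hq : f = MvPolynomial.C (f.coeff 0) := by
      ext m
      rw [MvPolynomial.coeff_C]
      split_ifs with hm
      · rw [hm]
      · refine (algebraMap k Ω).injective ?_
        rw [map_zero, ← MvPolynomial.coeff_map, hc, MvPolynomial.coeff_C, if_neg hm]
    rw [hq]
    refine (isUnit_iff_ne_zero.2 fun h0 => ?_).map MvPolynomial.C
    exact hf0.ne_zero (by rw [hq, h0, map_zero])
  · let s : Finset Ω := u.support.image (fun m => u.coeff m) ∪ v.support.image (fun m => v.coeff m)
    let E := IntermediateField.adjoin k (s : Set Ω)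
    haveI : FiniteDimensional k E :=
      IntermediateField.finiteDimensional_adjoin fun x _ => Algebra.IsIntegral.isIntegral x
    have hmem : ∀ (w : MvPolynomial σ Ω), (w.support.image (fun m => w.coeff m)) ⊆ s → ∀ m, w.coeff m ∈ E :=
      fun w hw m => by
      by_cases hm : w.coeff m = 0
      · rw [hm]; exact zero_mem E
      · exact IntermediateField.subset_adjoin k _ (hw (Finset.mem_image_of_mem _ (MvPolynomial.mem_support_iff.2 hm)))
    obtain ⟨u', hu'⟩ := key s u (hmem u Finset.subset_union_left)
    obtain ⟨v', hv'⟩ := key s v (hmem v Finset.subset_union_right)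
    have he : MvPolynomial.map (algebraMap k E) f = u' * v' := by
      apply MvPolynomial.map_injective (algebraMap E Ω) (algebraMap E Ω).injective
      rw [MvPolynomial.map_map, ← IsScalarTower.algebraMap_eq, map_mul, hu', hv', huv]
    rw [← hu', ← hv']
    exact ((h E inferInstance).isUnit_or_isUnit he).imp (fun h => h.map _) (fun h => h.map _)

variable {S : Type u} [CommRing S]

/-- A model of a field. -/
theorem exists_fg_gen (K0 : Type u) [Field K0] [Algebra S K0]
    (hfrac : ∀ c : K0, ∃ a b : S, algebraMap S K0 b ≠ 0 ∧ c = algebraMap S K0 a / algebraMap S K0 b)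
    (M : Type u) [Field M] [Algebra S M] [Algebra K0 M] [IsScalarTower S K0 M] [Algebra.EssFiniteType K0 M] :
    ∃ R : Subalgebra S M, R.FG ∧ Gen R := by
  obtain ⟨t, ht⟩ := IntermediateField.fg_top K0 M
  refine ⟨Algebra.adjoin S (t : Set M), ⟨t, rfl⟩, fun z => ?_⟩
  have hz : z ∈ IntermediateField.adjoin K0 (t : Set M) := ht ▸ IntermediateField.mem_top
  induction hz using IntermediateField.adjoin_induction with
  | mem w hw => exact ⟨w, Algebra.subset_adjoin hw, 1, one_mem _, one_ne_zero, (div_one w).symm⟩
  | algebraMap c =>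
    obtain ⟨a, b, hb, rfl⟩ := hfrac c
    exact ⟨_, Subalgebra.algebraMap_mem _ a, _, Subalgebra.algebraMap_mem _ b, by
      rw [IsScalarTower.algebraMap_apply S K0 M]; exact (_root_.map_ne_zero _).2 hb, by
      rw [map_div₀, ← IsScalarTower.algebraMap_apply, ← IsScalarTower.algebraMap_apply]⟩
  | add v w _ _ hv hw =>
    obtain ⟨a, ha, b, hb, hb0, rfl⟩ := hv
    obtain ⟨a', ha', b', hb', hb0', rfl⟩ := hw
    exact ⟨_, add_mem (mul_mem ha hb') (mul_mem hb ha'), _, mul_mem hb hb', mul_ne_zero hb0 hb0',
      div_add_div _ _ hb0 hb0'⟩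
  | inv v _ hv =>
    obtain ⟨a, ha, b, hb, hb0, rfl⟩ := hv
    by_cases ha0 : a = 0
    · exact ⟨0, zero_mem _, 1, one_mem _, one_ne_zero, by simp [ha0]⟩
    · exact ⟨b, hb, a, ha, ha0, inv_div a b⟩
  | mul v w _ _ hv hw =>
    obtain ⟨a, ha, b, hb, hb0, rfl⟩ := hv
    obtain ⟨a', ha', b', hb', hb0', rfl⟩ := hw
    exact ⟨_, mul_mem ha ha', _, mul_mem hb hb', mul_ne_zero hb0 hb0', div_mul_div_comm _ _ _ _⟩

theorem est_zero (K0 : Type u) [Field K0] [Algebra S K0] (hinj : Function.Injective (algebraMap S K0))
    (hfrac : ∀ c : K0, ∃ a b : S, algebraMap S K0 b ≠ 0 ∧ c = algebraMap S K0 a / algebraMap S K0 b)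
    (L : Type u) [Field L] [Algebra S L] [Algebra K0 L] [IsScalarTower S K0 L]
    (hr : Algebra.trdeg K0 L = 0) (hc : ∀ z : L, IsAlgebraic K0 z → z ∈ Set.range (algebraMap K0 L))
    (A : Subalgebra S L) (hA : A.FG) (hA' : Gen A) :
    ∃ g ∈ A, g ≠ 0 ∧ Est 0 (inv' A g) := by
  classical
  haveI := trdeg_eq_zero_iff.1 hr
  have hinjL : Function.Injective (algebraMap S L) := by
    rw [IsScalarTower.algebraMap_eq S K0 L]
    exact (algebraMap K0 L).injective.comp hinj
  have hbot : Gen (⊥ : Subalgebra S L) := fun z => by
    obtain ⟨c, rfl⟩ := hc z (Algebra.IsAlgebraic.isAlgebraic z)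
    obtain ⟨a, b, hb, rfl⟩ := hfrac c
    exact ⟨_, Subalgebra.algebraMap_mem _ a, _, Subalgebra.algebraMap_mem _ b, by
      rw [IsScalarTower.algebraMap_apply S K0 L]; exact (_root_.map_ne_zero _).2 hb, by
      rw [map_div₀, ← IsScalarTower.algebraMap_apply, ← IsScalarTower.algebraMap_apply]⟩
  obtain ⟨g, hg, hg0, h, hh, h0, he⟩ := exists_common hA hA' Subalgebra.fg_bot hbot
  obtain ⟨s, rfl⟩ := Algebra.mem_bot.1 hh
  refine ⟨g, hg, hg0, s, fun e => h0 (by rw [e, map_zero]), 0, fun F _ _ _ hs => ?_⟩
  rw [he, Nat.card_congr (Equiv.ofBijective _ (bijective_restrict (F := F) hh h0))]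
  haveI : Subsingleton ((⊥ : Subalgebra S L) →ₐ[S] F) := ⟨fun φ ψ => AlgHom.ext fun ⟨z, hz⟩ => by
    obtain ⟨a, rfl⟩ := Algebra.mem_bot.1 hz
    exact (φ.commutes a).trans (ψ.commutes a).symm⟩
  let φ₀ : (⊥ : Subalgebra S L) →ₐ[S] F := (Algebra.ofId S F).comp (Algebra.botEquivOfInjective hinjL).toAlgHom
  haveI : Nonempty {ψ : (⊥ : Subalgebra S L) →ₐ[S] F // ψ ⟨algebraMap S L s, hh⟩ ≠ 0} :=
    ⟨⟨φ₀, fun e => hs ((φ₀.commutes s).symm.trans e)⟩⟩
  rw [Nat.card_unique]
  simp

/-- The step for a separable curve over an algebraically closed subfield. -/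
theorem curve_step {L M : Type u} [Field L] [Field M] [Algebra S M] [Algebra S L] [Algebra M L] [IsScalarTower S M L]
    (x : L) (hxM : Transcendental M x) (hcM : ∀ z : L, IsAlgebraic M z → z ∈ Set.range (algebraMap M L))
    [FiniteDimensional (IntermediateField.adjoin M ({x} : Set L)) L]
    [Algebra.IsSeparable (IntermediateField.adjoin M ({x} : Set L)) L]
    {r : ℕ} (R₀ : Subalgebra S M) (hR₀ : R₀.FG) (hR₀' : Gen R₀)
    (IH : ∀ R : Subalgebra S M, R.FG → Gen R → ∃ g ∈ R, g ≠ 0 ∧ Est r (inv' R g))
    (A : Subalgebra S L) (hA : A.FG) (hA' : Gen A) :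
    ∃ g ∈ A, g ≠ 0 ∧ Est (r + 1) (inv' A g) := by
  classical
  set E := IntermediateField.adjoin M ({x} : Set L) with hE
  -- an integral primitive element
  obtain ⟨θ₀, hθ₀⟩ := Field.exists_primitive_element E L
  letI : Algebra M[X] L := (aeval (R := M) x).toRingHom.toAlgebra
  have hinjX : Function.Injective (algebraMap M[X] L) := transcendental_iff_injective.1 hxM
  haveI : Module.IsTorsionFree M[X] L :=
    Module.isTorsionFree_iff_faithfulSMul.2 ((faithfulSMul_iff_algebraMap_injective M[X] L).2 hinjX)
  obtain ⟨c, hc0, hθint⟩ : ∃ c : M[X], c ≠ 0 ∧ IsIntegral M[X] (c • θ₀) := by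
    have h1 : IsAlgebraic (Algebra.adjoin M ({x} : Set L)) θ₀ :=
      IntermediateField.isAlgebraic_adjoin_iff.1 (Algebra.IsAlgebraic.isAlgebraic (R := E) θ₀)
    obtain ⟨p, hp, hpe⟩ := h1
    let π : M[X] →+* Algebra.adjoin M ({x} : Set L) :=
      ((aeval (R := M) x).codRestrict _ fun q => aeval_mem_adjoin_singleton M x).toRingHom
    have hπ : Function.Surjective π := fun c => by
      obtain ⟨c, hc⟩ := c
      have hc' := hc
      rw [Algebra.adjoin_singleton_eq_range_aeval, AlgHom.mem_range] at hc'
      obtain ⟨q, hq⟩ := hc' 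
      exact ⟨q, Subtype.ext hq⟩
    obtain ⟨q, rfl⟩ := Polynomial.map_surjective π hπ p
    have h2 : IsAlgebraic M[X] θ₀ := ⟨q, fun e => hp (by rw [e, Polynomial.map_zero]), by
      rw [aeval_def, show algebraMap M[X] L = (algebraMap (Algebra.adjoin M ({x} : Set L)) L).comp π from rfl,
        ← eval₂_map]
      exact hpe⟩
    obtain ⟨c, hc, hci⟩ := h2.exists_integral_multiple
    exact ⟨c, hc, hci⟩
  set θ := c • θ₀ with hθdef
  have hcx : aeval x c ≠ 0 := fun e => hc0 (hinjX (e.trans (map_zero _).symm))
  have hcE : aeval x c ∈ E := IntermediateField.algebra_adjoin_le_adjoin M _ (aeval_mem_adjoin_singleton M x)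
  have hgen : IntermediateField.adjoin M ({x, θ} : Set L) = ⊤ := by
    refine eq_top_iff.2 fun z hz' => ?_
    clear hz'
    have hz : z ∈ IntermediateField.adjoin E ({θ₀} : Set L) := hθ₀ ▸ IntermediateField.mem_top
    have hEle : ∀ e : E, (e : L) ∈ IntermediateField.adjoin M ({x, θ} : Set L) := fun e =>
      IntermediateField.adjoin.mono M _ _ (by simp) e.2
    induction hz using IntermediateField.adjoin_induction with
    | mem w hw =>
      rw [Set.mem_singleton_iff.1 hw, show θ₀ = θ / aeval x c by
        rw [hθdef, Algebra.smul_def]; exact (eq_div_iff hcx).2 (mul_comm _ _)]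
      exact div_mem (IntermediateField.subset_adjoin M _ (by simp)) (hEle ⟨_, hcE⟩)
    | algebraMap e => exact hEle e
    | add v w _ _ hv hw => exact add_mem hv hw
    | inv v _ hv => exact inv_mem hv
    | mul v w _ _ hv hw => exact mul_mem hv hw
  set f := minpoly M[X] θ with hf
  have hev : ∀ G : M[X][Y], aeval θ G = aevalAeval x θ G := fun G => by
    induction G using Polynomial.induction_on' with
    | add p q hp hq => rw [map_add, map_add, hp, hq]
    | monomial n c =>
      rw [aeval_monomial, ← C_mul_X_pow_eq_monomial, map_mul, map_pow]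
      simp [RingHom.algebraMap_toAlgebra]
  have hker : ∀ G : M[X][Y], aevalAeval x θ G = 0 ↔ f ∣ G := fun G => by
    rw [← hev, minpoly.isIntegrallyClosed_dvd_iff hθint]
  have hn : 0 < f.natDegree := minpoly.natDegree_pos hθint
  have hmon : f.Monic := minpoly.monic hθint
  -- separability
  have hfE : (f.map (FunFld.toAdjoin (k := M) x).toRingHom) = minpoly E θ := by
    have hev0 : aeval θ (f.map (FunFld.toAdjoin (k := M) x).toRingHom) = 0 := by
      rw [FunFld.aeval_map_toAdjoin, hker]
    have hli : LinearIndependent E fun j : Fin f.natDegree => θ ^ (j : ℕ) := by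
      refine FunFld.linearIndependent_adjoin_of_polynomial (k := M) (x := x) _ fun p hp => ?_
      let G : M[X][Y] := ∑ j : Fin f.natDegree, C (p j) * Y ^ (j : ℕ)
      have hG : aevalAeval x θ G = 0 := by
        rw [← hp, map_sum]
        exact Finset.sum_congr rfl fun j _ => by simp
      have hG0 : G = 0 := by
        by_contra hne
        have hlt : G.degree < f.degree := by
          rw [degree_eq_natDegree hmon.ne_zero]
          exact degree_sum_fin_lt _
        exact hlt.not_ge (degree_le_of_dvd ((hker G).1 hG) hne)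
      funext j
      have h3 := congrArg (fun P : M[X][Y] => P.coeff (j : ℕ)) hG0
      simpa [G, Fin.val_inj, finsetSum_coeff, coeff_C_mul, coeff_X_pow] using h3
    have hint : IsIntegral E θ := IsIntegral.of_finite E θ
    have hle' : f.natDegree ≤ (minpoly E θ).natDegree := by
      rw [← IntermediateField.adjoin.finrank hint, FunFld.adjoin_simple_over_eq_top hgen,
        IntermediateField.finrank_top']
      simpa using hli.fintype_card_le_finrank
    refine eq_of_monic_of_dvd_of_natDegree_le (minpoly.monic hint) (hmon.map _) (minpoly.dvd _ _ hev0) ?_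
    rw [hmon.natDegree_map]
    exact hle'
  have hsep' : aevalAeval x θ (derivative f) ≠ 0 := by
    rw [← FunFld.aeval_map_toAdjoin, ← derivative_map, hfE]
    exact (Algebra.IsSeparable.isSeparable E θ).aeval_derivative_ne_zero (minpoly.aeval E θ)
  -- geometric irreducibility
  have hgeo := FunFld.isGeometric_of_separating (k := M) (K := L) hcM hxM inferInstance
  have hkerM : RingHom.ker (MvPolynomial.aeval ![x, θ] : MvPolynomial (Fin 2) M →ₐ[M] L) =
      Ideal.span {equivMvPolynomial M f} := by
    ext p
    rw [RingHom.mem_ker, FunFld.AbsIrred.aeval_eq_aevalAeval, hker, Ideal.mem_span_singleton,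
      ← map_dvd_iff (equivMvPolynomial M), AlgEquiv.apply_symm_apply]
  have hgeom : Irreducible (MvPolynomial.map (algebraMap M (AlgebraicClosure M)) (equivMvPolynomial M f)) := by
    refine irreducible_algebraicClosure _ fun k' _ _ hfin => ?_
    have hf0 : MvPolynomial.map (algebraMap M k') (equivMvPolynomial M f) ≠ 0 := by
      rw [Ne, map_eq_zero_iff _ (MvPolynomial.map_injective _ (algebraMap M k').injective)]
      exact fun h0 => hmon.ne_zero ((map_eq_zero_iff _ (equivMvPolynomial M).injective).1 h0)
    letI : Field (TensorProduct M k' L) := (hgeo k' hfin).toField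
    have hprime : (Ideal.span {MvPolynomial.map (algebraMap M k') (equivMvPolynomial M f)}).IsPrime := by
      rw [← FunFld.AbsIrred.ker_baseChange (k' := k') x θ hkerM]
      exact RingHom.ker_isPrime _
    exact ((Ideal.span_singleton_prime hf0).1 hprime).irreducible
  exact step x θ f hmon hn hker hgeom hsep' hgen R₀ hR₀ hR₀' IH A hA hA'

/-- Lang–Weil without uniformity. -/
theorem est (K0 : Type u) [Field K0] [PerfectField K0] [Algebra S K0] (hinj : Function.Injective (algebraMap S K0))
    (hfrac : ∀ c : K0, ∃ a b : S, algebraMap S K0 b ≠ 0 ∧ c = algebraMap S K0 a / algebraMap S K0 b) (r : ℕ) :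
    ∀ (L : Type u) [Field L] [Algebra S L] [Algebra K0 L] [IsScalarTower S K0 L] [Algebra.EssFiniteType K0 L],
      Algebra.trdeg K0 L = r → (∀ z : L, IsAlgebraic K0 z → z ∈ Set.range (algebraMap K0 L)) →
      ∀ A : Subalgebra S L, A.FG → Gen A → ∃ g ∈ A, g ≠ 0 ∧ Est r (inv' A g) := by
  induction r with
  | zero => exact fun L _ _ _ _ _ hr hc A hA hA' => est_zero K0 hinj hfrac L (by simpa using hr) hc A hA hA'
  | succ r ih =>
    intro L _ _ _ _ _ hr hc A hA hA'
    classical
    obtain ⟨s, hs, hsep⟩ := exists_isTranscendenceBasis_and_isSeparable_of_perfectField (k := K0) (K := L)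
    have hcard : s.card = r + 1 := by
      have := hs.cardinalMk_eq_trdeg
      rw [hr, Cardinal.mk_coe_finset] at this
      exact_mod_cast this
    obtain ⟨x, hxs⟩ := Finset.card_pos.1 (by omega : 0 < s.card)
    let T := s.erase x
    let M0 := IntermediateField.adjoin K0 (T : Set L)
    have hxM0 : Transcendental M0 x := by
      have h1 : Transcendental (Algebra.adjoin K0 (T : Set L)) x := by
        have h2 := hs.1.transcendental_adjoin (s := {i : ↥s | i.1 ≠ x}) (i := ⟨x, hxs⟩) (fun h => h rfl)
        convert h2 <;> first | rfl | (ext z; simp [T]; tauto)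
      exact IntermediateField.transcendental_adjoin_iff.2 h1
    let M := algebraicClosure M0 L
    have hxM : Transcendental M x := hxM0.algebraicClosure
    have hcM : ∀ z : L, IsAlgebraic M z → z ∈ Set.range (algebraMap M L) := fun z hz =>
      ⟨⟨z, mem_algebraicClosure_iff.2 (hz.restrictScalars M0)⟩, rfl⟩
    set E := IntermediateField.adjoin M ({x} : Set L) with hE
    have hle : IntermediateField.adjoin K0 (s : Set L) ≤ E.restrictScalars K0 := by
      refine IntermediateField.adjoin_le_iff.2 fun z hz => ?_
      rcases eq_or_ne z x with rfl | hzx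
      · exact IntermediateField.mem_adjoin_simple_self M z
      · have hzM0 : z ∈ M0 := IntermediateField.subset_adjoin K0 _ (Finset.mem_erase.2 ⟨hzx, hz⟩)
        exact IntermediateField.algebraMap_mem E (algebraMap M0 M ⟨z, hzM0⟩)
    letI : Algebra (IntermediateField.adjoin K0 (s : Set L)) E :=
      (IntermediateField.inclusion hle).toRingHom.toAlgebra
    haveI : IsScalarTower (IntermediateField.adjoin K0 (s : Set L)) E L := IsScalarTower.of_algebraMap_eq fun _ => rfl
    haveI : Algebra.IsSeparable E L := Algebra.isSeparable_tower_top_of_isSeparable (IntermediateField.adjoin K0 (s : Set L)) E L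
    haveI : Algebra.EssFiniteType M L := Algebra.EssFiniteType.of_comp K0 M L
    haveI : Algebra.EssFiniteType E L := Algebra.EssFiniteType.of_comp M E L
    haveI : FiniteDimensional E L := Algebra.finite_of_essFiniteType_of_isAlgebraic
    -- `M` is finitely generated
    haveI : Algebra.EssFiniteType K0 M := by
      haveI : Algebra.EssFiniteType K0 M0 :=
        IntermediateField.essFiniteType_iff.2 (IntermediateField.fg_adjoin_finset T)
      set E0 := IntermediateField.adjoin M0 ({x} : Set L)
      have hle0 : IntermediateField.adjoin K0 (s : Set L) ≤ E0.restrictScalars K0 := by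
        refine IntermediateField.adjoin_le_iff.2 fun z hz => ?_
        rcases eq_or_ne z x with rfl | hzx
        · exact IntermediateField.mem_adjoin_simple_self M0 z
        · exact IntermediateField.algebraMap_mem E0 (⟨z, IntermediateField.subset_adjoin K0 _
            (Finset.mem_erase.2 ⟨hzx, hz⟩)⟩ : M0)
      letI : Algebra (IntermediateField.adjoin K0 (s : Set L)) E0 :=
        (IntermediateField.inclusion hle0).toRingHom.toAlgebra
      haveI : IsScalarTower (IntermediateField.adjoin K0 (s : Set L)) E0 L := IsScalarTower.of_algebraMap_eq fun _ => rfl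
      haveI : Algebra.IsSeparable E0 L := Algebra.isSeparable_tower_top_of_isSeparable (IntermediateField.adjoin K0 (s : Set L)) E0 L
      haveI : Algebra.EssFiniteType M0 L := Algebra.EssFiniteType.of_comp K0 M0 L
      haveI : Algebra.EssFiniteType E0 L := Algebra.EssFiniteType.of_comp M0 E0 L
      haveI : FiniteDimensional E0 L := Algebra.finite_of_essFiniteType_of_isAlgebraic
      have hrk : Module.rank M0 M ≤ (Module.finrank E0 L : Cardinal) := by
        refine rank_le fun t ht => ?_
        have hli : LinearIndependent E0 fun i : t => ((i : M) : L) := by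
          refine FunFld.linearIndependent_adjoin_of_polynomial (k := M0) (x := x) _ fun p hp => ?_
          have hP : (∑ i : t, C (i : M) * (p i).map (algebraMap M0 M)) = 0 := by
            refine transcendental_iff_injective.1 hxM ?_
            rw [map_zero, map_sum]
            refine Eq.trans ?_ hp
            refine Finset.sum_congr rfl fun i _ => ?_
            rw [map_mul, aeval_C, aeval_map_algebraMap, mul_comm]
            rfl
          funext i
          refine Polynomial.ext fun j => ?_
          rw [Pi.zero_apply, coeff_zero]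
          have h2 := congrArg (fun P : M[X] => P.coeff j) hP
          simp only [finsetSum_coeff, coeff_C_mul, coeff_map, coeff_zero] at h2
          refine Fintype.linearIndependent_iff.1 ht (fun i => (p i).coeff j) ?_ i
          rw [← h2]
          exact Finset.sum_congr rfl fun i _ => by rw [Algebra.smul_def, mul_comm]
        simpa using hli.fintype_card_le_finrank
      haveI : Module.Finite M0 M :=
        Module.rank_lt_aleph0_iff.1 (hrk.trans_lt (Cardinal.natCast_lt_aleph0))
      exact Algebra.EssFiniteType.comp K0 M0 M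
    -- its transcendence degree
    have hrM : Algebra.trdeg K0 M = r := by
      have h1 : (r : Cardinal) ≤ Algebra.trdeg K0 M := by
        let v : ↥T → M := fun z => algebraMap M0 M ⟨z.1, IntermediateField.subset_adjoin K0 _ z.2⟩
        have hv : AlgebraicIndependent K0 v := by
          refine AlgebraicIndependent.of_comp (M.val.restrictScalars K0) ?_
          show AlgebraicIndependent K0 fun z : ↥T => (z.1 : L)
          exact hs.1.comp (fun z : ↥T => (⟨z.1, Finset.mem_of_mem_erase z.2⟩ : ↥s))
            fun a b h => Subtype.ext (congrArg (fun t : ↥s => t.1) h)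
        have := hv.cardinalMk_le_trdeg
        rw [Cardinal.mk_coe_finset, show T.card = r by rw [Finset.card_erase_of_mem hxs, hcard]; omega] at this
        exact_mod_cast this
      have h2 : Algebra.trdeg K0 M + Algebra.trdeg M L = (r : Cardinal) + 1 := by
        rw [trdeg_add_eq K0 M, hr]; push_cast; rfl
      have h3 : (1 : Cardinal) ≤ Algebra.trdeg M L := by
        have := (algebraicIndependent_unique_type_iff.2 hxM : AlgebraicIndependent M fun _ : PUnit.{u+1} => x).cardinalMk_le_trdeg
        simpa using this
      have h4 : Algebra.trdeg K0 M ≤ (r : Cardinal) + 1 := le_self_add.trans_eq h2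
      have h5 : Algebra.trdeg M L ≤ (r : Cardinal) + 1 := le_add_self.trans_eq h2
      obtain ⟨a, ha⟩ := Cardinal.lt_aleph0.1 (h4.trans_lt (by exact_mod_cast Cardinal.natCast_lt_aleph0 (n := r + 1)))
      obtain ⟨b, hb⟩ := Cardinal.lt_aleph0.1 (h5.trans_lt (by exact_mod_cast Cardinal.natCast_lt_aleph0 (n := r + 1)))
      rw [ha, hb] at h2
      rw [hb] at h3
      rw [ha] at h1 ⊢
      norm_cast at h1 h2 h3 ⊢
      omega
    have hcK : ∀ z : M, IsAlgebraic K0 z → z ∈ Set.range (algebraMap K0 M) := fun z hz => by
      obtain ⟨c, hc⟩ := hc _ (hz.algHom (M.val.restrictScalars K0))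
      exact ⟨c, (algebraMap M L).injective (by rw [← IsScalarTower.algebraMap_apply, hc]; rfl)⟩
    letI : Algebra S M := ((algebraMap K0 M).comp (algebraMap S K0)).toAlgebra
    haveI : IsScalarTower S K0 M := IsScalarTower.of_algebraMap_eq fun _ => rfl
    haveI : IsScalarTower S M L := IsScalarTower.of_algebraMap_eq fun a => by
      rw [IsScalarTower.algebraMap_apply S K0 L, IsScalarTower.algebraMap_apply S K0 M,
        ← IsScalarTower.algebraMap_apply K0 M L]
    obtain ⟨R₀, hR₀, hR₀'⟩ := exists_fg_gen K0 hfrac M
    exact curve_step x hxM hcM R₀ hR₀ hR₀' (fun R hR hR' => ih M hrM hcK R hR hR') A hA hA'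

end GrothLib.LangWeil28
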