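import Groth.Agent.Lib.LangWeil28.DegreeOne
import Groth.Agent.Lib.LangWeil28.Main
import Groth.Agent.Lib.FieldExtra.Insep
import Mathlib.FieldTheory.Finite.Basic

/-!
# Points of a domain of finite type over the integers modulo degree one primes
-/

set_option autoImplicit false
set_option linter.all false
set_option backward.isDefEq.respectTransparency false

universe u

open IsDedekindDomain NumberField
open scoped Classical

namespace GrothLib.LangWeil28

/-- Many points modulo many primes. -/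
theorem exists_points_lower (A : Type u) [CommRing A] [IsDomain A] [Algebra.FiniteType ℤ A] [CharZero A]
    (t : ℕ) (ht : Algebra.trdeg ℤ A = t) :
    ∃ P : Set ℕ, (∀ σ : ℝ, σ < 1 → ¬ Summable (P.indicator fun p : ℕ => (p : ℝ) ^ (-σ))) ∧
      ∀ p ∈ P, p.Prime ∧ ∃ (F : Type u) (_ : Field F), Nat.card F = p ∧
        Finite (A →+* F) ∧ (p : ℝ) ^ t / 2 ≤ (Nat.card (A →+* F) : ℝ) := by
  obtain ⟨L, _, _, _⟩ : ∃ (L : Type u) (_ : Field L) (_ : Algebra A L), IsFractionRing A L :=
    ⟨FractionRing A, inferInstance, inferInstance, inferInstance⟩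
  haveI : CharZero L := charZero_of_injective_algebraMap (IsFractionRing.injective A L)
  haveI : Algebra.EssFiniteType ℤ L :=
    haveI : Algebra.EssFiniteType A L := Algebra.EssFiniteType.of_isLocalization L (nonZeroDivisors A)
    Algebra.EssFiniteType.comp ℤ A L
  haveI : IsScalarTower ℤ ℚ L := ⟨fun n q x => by simp [Algebra.smul_def, mul_assoc]⟩
  haveI : Algebra.EssFiniteType ℚ L := Algebra.EssFiniteType.of_comp ℤ ℚ L
  let k₀ := (⊥ : IntermediateField ℚ L)
  haveI : Algebra.EssFiniteType k₀ L := Algebra.EssFiniteType.of_comp ℚ k₀ L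
  haveI : FiniteDimensional k₀ (algebraicClosure k₀ L) :=
    FieldExtra.finiteDimensional_algebraicClosure (IntermediateField.fg_top k₀ L)
  let K := algebraicClosure k₀ L
  haveI : CharZero K := charZero_of_injective_algebraMap (algebraMap ℚ K).injective
  haveI : FiniteDimensional ℚ K := Module.Finite.trans k₀ K
  haveI : NumberField K := { to_charZero := inferInstance, to_finiteDimensional := inferInstance }
  -- transcendence degree
  have htr : Algebra.trdeg K L = t := by
    haveI : Algebra.IsAlgebraic A L := IsLocalization.isAlgebraic L (nonZeroDivisors A)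
    haveI : Algebra.IsAlgebraic ℤ ℚ := IsLocalization.isAlgebraic ℚ (nonZeroDivisors ℤ)
    haveI : FaithfulSMul ℤ A := (faithfulSMul_iff_algebraMap_injective ℤ A).2 (algebraMap ℤ A).injective_int
    haveI : FaithfulSMul ℤ L := (faithfulSMul_iff_algebraMap_injective ℤ L).2 (algebraMap ℤ L).injective_int
    have h1 := trdeg_add_eq ℤ A (A := L)
    rw [ht, trdeg_eq_zero (R := A) (A := L), add_zero] at h1
    haveI : IsScalarTower ℤ ℚ K := ⟨fun n q x => by simp [Algebra.smul_def, mul_assoc]⟩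
    haveI : IsScalarTower ℤ K L := ⟨fun n q x => by simp [Algebra.smul_def, mul_assoc]⟩
    haveI : Algebra.IsAlgebraic ℤ K := Algebra.IsAlgebraic.trans ℤ ℚ K
    haveI : FaithfulSMul ℤ K := (faithfulSMul_iff_algebraMap_injective ℤ K).2 (algebraMap ℤ K).injective_int
    have h2 := trdeg_add_eq ℤ K (A := L)
    rw [trdeg_eq_zero (R := ℤ) (A := K)] at h2
    simp only [Cardinal.lift_zero, zero_add, Cardinal.lift_id] at h2 h1
    simpa [Cardinal.lift_id] using h2.trans h1.symm
  haveI : Algebra.EssFiniteType K L := Algebra.EssFiniteType.of_comp k₀ K L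
  have hc : ∀ z : L, IsAlgebraic K z → z ∈ Set.range (algebraMap K L) := fun z hz =>
    ⟨⟨z, mem_algebraicClosure_iff.2 (hz.restrictScalars k₀)⟩, rfl⟩
  let S := 𝓞 K
  have hinjK : Function.Injective (algebraMap S K) := RingOfIntegers.coe_injective
  -- the model
  obtain ⟨T, hT⟩ := (inferInstance : Algebra.FiniteType ℤ A).out
  let B0 : Subalgebra S L := Algebra.adjoin S ((T.image (algebraMap A L) : Finset L) : Set L)
  have hmem : ∀ a : A, algebraMap A L a ∈ B0 := fun a => by
    have ha : a ∈ Algebra.adjoin ℤ (T : Set A) := hT ▸ trivial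
    induction ha using Algebra.adjoin_induction with
    | mem x hx => exact Algebra.subset_adjoin (Finset.mem_coe.2 (Finset.mem_image_of_mem _ hx))
    | algebraMap n => simpa using intCast_mem B0 n
    | add x y _ _ hx hy => rw [map_add]; exact add_mem hx hy
    | mul x y _ _ hx hy => rw [map_mul]; exact mul_mem hx hy
  have hB0 : B0.FG := ⟨_, rfl⟩
  have hB0' : Gen B0 := fun z => by
    obtain ⟨a, b, hb, rfl⟩ := IsFractionRing.div_surjective A z
    exact ⟨_, hmem a, _, hmem b, IsFractionRing.to_map_ne_zero_of_mem_nonZeroDivisors hb, rfl⟩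
  obtain ⟨e, he, e0, s, hs0, C, hC⟩ := est (S := S) K hinjK
    (fun c => by
      obtain ⟨a, b, hb, rfl⟩ := IsFractionRing.div_surjective S c
      exact ⟨a, b, IsFractionRing.to_map_ne_zero_of_mem_nonZeroDivisors hb, rfl⟩)
    t L htr hc B0 hB0 hB0'
  set B := inv' B0 e with hB
  -- the primes
  let N : ℕ := max (Ideal.absNorm (Ideal.span {s})) ⌈(2 * C) ^ 2⌉₊
  let P0 : Set ℕ := {p | p.Prime ∧ ∃ v : HeightOneSpectrum S, Ideal.absNorm v.asIdeal = p}
  refine ⟨P0 ∩ Set.Ioi N, fun σ hσ hsum => not_summable_degreeOne K P0 (fun v hv => ⟨hv, v, rfl⟩) σ hσ ?_, ?_⟩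
  · refine (hsum.add (summable_of_ne_finset_zero (s := Finset.range (N + 1))
      (f := (P0 ∩ Set.Iic N).indicator fun p : ℕ => (p : ℝ) ^ (-σ)) fun p hp =>
        Set.indicator_of_notMem (fun h => hp (Finset.mem_range.2 (Nat.lt_succ_of_le h.2))) _)).congr fun p => ?_
    by_cases hp : N < p
    · simp [Set.indicator_apply, hp, not_le.2 hp]
    · simp [Set.indicator_apply, hp, not_lt.1 hp]
  rintro p ⟨⟨hp, v, hv⟩, hpN⟩
  refine ⟨hp, ?_⟩
  haveI := v.isMaximal
  let F := S ⧸ v.asIdeal
  letI : Field F := Ideal.Quotient.field v.asIdeal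
  have hcard : Nat.card F = p := by
    rw [← Submodule.cardQuot_apply, ← Ideal.absNorm_apply, hv]
  haveI : Finite F := Nat.finite_of_card_ne_zero (by rw [hcard]; exact hp.ne_zero)
  haveI : Algebra.FiniteType ℤ A := ‹_›
  haveI hfinA : Finite (A →+* F) := by
    obtain ⟨n, π, hπ⟩ := Algebra.FiniteType.iff_quotient_mvPolynomial''.mp ‹Algebra.FiniteType ℤ A›
    exact Finite.of_injective (fun φ (j : Fin n) => φ (π (MvPolynomial.X j))) fun φ φ' h =>
      RingHom.ext fun a => by
        obtain ⟨q, rfl⟩ := hπ a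
        exact RingHom.congr_fun (MvPolynomial.ringHom_ext (f := φ.comp π.toRingHom)
          (g := φ'.comp π.toRingHom) (fun z => by simp) fun j => congrFun h j) q
  refine ⟨F, inferInstance, hcard, hfinA, ?_⟩
  have hs : algebraMap S F s ≠ 0 := fun h => by
    have hmem : s ∈ v.asIdeal := Ideal.Quotient.eq_zero_iff_mem.1 h
    have hd : Ideal.absNorm v.asIdeal ∣ Ideal.absNorm (Ideal.span {s}) :=
      map_dvd _ (Ideal.dvd_span_singleton.2 hmem)
    have h0 : Ideal.absNorm (Ideal.span {s}) ≠ 0 := fun h0 =>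
      hs0 (Ideal.span_singleton_eq_bot.1 (Ideal.absNorm_eq_zero_iff.1 h0))
    have := Nat.le_of_dvd (Nat.pos_of_ne_zero h0) hd
    rw [hv] at this
    exact absurd ((le_max_left _ _).trans_lt hpN) (not_lt.2 this)
  have hest := (abs_le.1 (hC F hs)).1
  rw [hcard] at hest
  -- restriction to `A`
  let ι : A →+* B := (algebraMap A L).codRestrict B fun a => le_inv' B0 e (hmem a)
  have hres : Function.Injective fun φ : B →ₐ[S] F => φ.toRingHom.comp ι := fun φ φ' h => by
    refine (bijective_restrict he e0).1 (Subtype.ext (AlgHom.ext fun ⟨z, hz⟩ => ?_))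
    show φ ⟨z, _⟩ = φ' ⟨z, _⟩
    induction hz using Algebra.adjoin_induction with
    | mem x hx =>
      obtain ⟨a, -, rfl⟩ := Finset.mem_image.1 (Finset.mem_coe.1 hx)
      exact RingHom.congr_fun h a
    | algebraMap c => exact (φ.commutes c).trans (φ'.commutes c).symm
    | add x y hx hy ihx ihy =>
      show φ (⟨x, le_inv' B0 e hx⟩ + ⟨y, le_inv' B0 e hy⟩) = φ' (⟨x, le_inv' B0 e hx⟩ + ⟨y, le_inv' B0 e hy⟩)
      rw [map_add, map_add]; exact congrArg₂ _ ihx ihy
    | mul x y hx hy ihx ihy =>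
      show φ (⟨x, le_inv' B0 e hx⟩ * ⟨y, le_inv' B0 e hy⟩) = φ' (⟨x, le_inv' B0 e hx⟩ * ⟨y, le_inv' B0 e hy⟩)
      rw [map_mul, map_mul]; exact congrArg₂ _ ihx ihy
  have hle2 : (Nat.card (B →ₐ[S] F) : ℝ) ≤ Nat.card (A →+* F) :=
    Nat.cast_le.2 (Nat.card_le_card_of_injective _ hres)
  refine le_trans ?_ hle2
  have hp0 : (0 : ℝ) < p := Nat.cast_pos.2 hp.pos
  have hsq : 2 * C ≤ Real.sqrt p := Real.le_sqrt_of_sq_le ((Nat.le_ceil _).trans
    (Nat.cast_le.2 ((le_max_right _ _).trans hpN.le)))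
  have hA : C * ((p : ℝ) ^ t / Real.sqrt p) ≤ (p : ℝ) ^ t / 2 := by
    rw [mul_div_assoc', div_le_iff₀ (Real.sqrt_pos.2 hp0)]
    have : (0 : ℝ) ≤ (p : ℝ) ^ t := by positivity
    nlinarith
  linarith

end GrothLib.LangWeil28
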