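import Groth.Agent.Lib.LangWeil28.Component
import Groth.Agent.Lib.FBase7.Embeds
import Groth.Agent.Lib.Zeta.Counting
import Groth.Agent.Lib.Dim.Scheme

/-!
# The point count near the generic point of a component
-/

set_option autoImplicit false
set_option linter.all false
set_option backward.isDefEq.respectTransparency false

universe u

open CategoryTheory CategoryTheory.Limits AlgebraicGeometry TopologicalSpace
open scoped Classical

namespace GrothLib.LangWeil28

theorem natCard_irreducibleComponents_congr {α β : Type u} [TopologicalSpace α] [TopologicalSpace β] (e : α ≃ₜ β) :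
    Nat.card (irreducibleComponents α) = Nat.card (irreducibleComponents β) := by
  have h : ∀ {γ δ : Type u} [TopologicalSpace γ] [TopologicalSpace δ] (e : γ ≃ₜ δ) (t : Set δ),
      t ∈ irreducibleComponents δ → e ⁻¹' t ∈ irreducibleComponents γ := fun e t ht =>
    preimage_mem_irreducibleComponents_of_isPreirreducible_fiber ht e.continuous e.isOpenMap
      (fun x => (Set.subsingleton_singleton.preimage e.injective).isPreirreducible) (by rw [e.surjective.range_eq, Set.inter_univ]; exact ht.1.nonempty)
  exact Nat.card_congr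
    { toFun := fun t => ⟨e.symm ⁻¹' t.1, h e.symm t.1 t.2⟩
      invFun := fun t => ⟨e ⁻¹' t.1, h e t.1 t.2⟩
      left_inv := fun t => Subtype.ext (Set.ext fun x => by simp)
      right_inv := fun t => Subtype.ext (Set.ext fun x => by simp) }

variable {k : Type u} [Field k] {X : Scheme.{u}}

/-- The number of geometric components over a closed set. -/
noncomputable abbrev compCount (f : X ⟶ Spec (CommRingCat.of k)) (Z : Set X) : ℕ :=
  Nat.card (irreducibleComponents ((pullback.fst f (Spec.map (CommRingCat.ofHom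
    (algebraMap k (AlgebraicClosure k))))).base ⁻¹' Z))

/-- The point count of a dense open piece of an irreducible closed set. -/
theorem exists_piece [Finite k] (f : X ⟶ Spec (CommRingCat.of k)) [LocallyOfFiniteType f]
    (Z : Set X) (hZ : IsClosed Z) (hirr : IsIrreducible Z) (r : ℕ) (hdim : topologicalKrullDim Z = r)
    (O : X.Opens) (hO : (Z ∩ (O : Set X)).Nonempty) (hOZ : (O : Set X) ⊆ Z) :
    0 < compCount f Z ∧ ∃ (W : Scheme.{u}) (g : W ⟶ X) (_ : IsPreimmersion g) (_ : LocallyOfFiniteType g),
      IsOpen (Set.range g) ∧ (Set.range g).Nonempty ∧ Set.range g ⊆ O ∧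
      ∃ C : ℝ, 0 ≤ C ∧ ∀ (F : Type u) [Field F] [Finite F] [Algebra k F],
        (¬ compCount f Z ∣ Module.finrank k F → SgaExt.pointCount (g ≫ f) F = 0) ∧
        (compCount f Z ∣ Module.finrank k F →
          |(SgaExt.pointCount (g ≫ f) F : ℝ) - (compCount f Z : ℝ) * (Nat.card F : ℝ) ^ r| ≤
            C * ((Nat.card F : ℝ) ^ r / Real.sqrt (Nat.card F))) := by
  let I := Scheme.IdealSheafData.vanishingIdeal (⟨Z, hZ⟩ : Closeds X)
  let Z0 := I.subscheme
  let ι : Z0 ⟶ X := I.subschemeι
  have hr : Set.range ι = Z := RedSub.range_subschemeι_vanishingIdeal _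
  haveI : IsReduced Z0 := RedSub.isReduced_subscheme_vanishingIdeal _
  haveI : IrreducibleSpace (Set.range ι) := by rw [hr]; exact Subtype.irreducibleSpace hirr
  haveI : IrreducibleSpace Z0 :=
    Function.Surjective.irreducibleSpace (f := (ι.isEmbedding.toHomeomorph).symm)
      (Homeomorph.continuous _) (Homeomorph.surjective _)
  haveI : IsIntegral Z0 := (isIntegral_iff_irreducibleSpace_and_isReduced _).2 ⟨‹_›, ‹_›⟩
  letI : Z0.Over (Spec (CommRingCat.of k)) := ⟨ι ≫ f⟩
  -- an affine open inside
  obtain ⟨x, hxZ, hxO⟩ := hO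
  obtain ⟨z, rfl⟩ : x ∈ Set.range ι := by rw [hr]; exact hxZ
  obtain ⟨_, ⟨V, hV, rfl⟩, hzV, hVO⟩ :=
    Z0.isBasis_affineOpens.exists_subset_of_mem_open (show z ∈ ι ⁻¹' (O : Set X) from hxO) (O.2.preimage ι.continuous)
  haveI : Nonempty V := ⟨⟨z, hzV⟩⟩
  obtain ⟨ψ, hψ, hψ'⟩ := Dim.exists_finiteType_specMap (ι ≫ f) hV
  letI : Algebra k Γ(Z0, V) := ψ.hom.toAlgebra
  haveI : Algebra.FiniteType k Γ(Z0, V) := hψ
  have hdimA : ringKrullDim Γ(Z0, V) = r := by
    obtain ⟨n, hn, hnU⟩ := Dim.exists_nat_dim_open (ι ≫ f)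
    rw [← Dim.topologicalKrullDim_affineOpen hV, hnU V inferInstance, ← hn,
      Dim.IsEmbedding.topologicalKrullDim_eq ι.isEmbedding hr, hdim]
  -- the function field
  set η := genericPoint Z0
  have hηV : η ∈ V := ((genericPoint_spec Z0).mem_open_set_iff V.isOpen).mpr (by simpa using ⟨z, hzV⟩)
  let L := Z0.residueField η
  letI : Algebra k L := FBase7.resAlg k Z0 η
  letI : Algebra Γ(Z0, V) L := (Z0.evaluation V η hηV).hom.toAlgebra
  haveI : IsScalarTower k Γ(Z0, V) L := by
    refine IsScalarTower.of_algebraMap_eq fun c => ?_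
    have h : Spec.map (CommRingCat.ofHom (Curv2.resMap k Z0 η)) = Spec.map (ψ ≫ Z0.evaluation V η hηV) := by
      rw [← BaseChange.fromSpecResidueField_over (k := k) (X := Z0) η, Spec.map_comp, ← hψ']
      show Z0.fromSpecResidueField η ≫ ι ≫ f = _
      rw [Scheme.fromSpecResidueField, ← hV.fromSpecStalk_eq_fromSpecStalk hηV, IsAffineOpen.fromSpecStalk,
        ← Scheme.germ_residue, Spec.map_comp]
      simp only [Category.assoc]
    exact DFunLike.congr_fun (congrArg CommRingCat.Hom.hom (Spec.map_inj.1 h)) c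
  haveI : IsFractionRing Γ(Z0, V) Z0.functionField := functionField_isFractionRing_of_isAffineOpen Z0 V hV
  let e : Z0.functionField ≃ₐ[Γ(Z0, V)] L := AlgEquiv.ofBijective
    { toRingHom := (Z0.residue η).hom
      commutes' := fun a => rfl }
    ⟨RingHom.injective (Z0.residue η).hom, Z0.residue_surjective η⟩
  haveI : IsFractionRing Γ(Z0, V) L := IsLocalization.isLocalization_of_algEquiv _ e
  obtain ⟨hmpos, g0, hg0, C, hC0, hC⟩ := exists_est_domain (k := k) Γ(Z0, V) L r hdimA
  haveI : FiniteDimensional k (separableClosure k L) := FiniteDimensional.of_finrank_pos hmpos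
  -- the number of geometric components
  have hm : compCount f Z = Module.finrank k (separableClosure k L) := by
    haveI : FiniteDimensional k (FBase7.sepIn k Z0 (genericPoint Z0)) := ‹_›
    rw [← FBase7.card_irreducibleComponents_bc (k := k) (X := Z0) (L := AlgebraicClosure k) IsAlgClosed.lift]
    let σ := Spec.map (CommRingCat.ofHom (algebraMap k (AlgebraicClosure k)))
    let p : pullback (ι ≫ f) σ ⟶ pullback f σ :=
      (pullbackRightPullbackFstIso f σ ι).inv ≫ pullback.snd ι (pullback.fst f σ)
    have hp : Set.range p = (pullback.fst f σ).base ⁻¹' Z := by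
      rw [← hr, Scheme.Hom.comp_base, TopCat.coe_comp,
        Function.Surjective.range_comp (show Function.Surjective ⇑(pullbackRightPullbackFstIso f σ ι).inv from (pullbackRightPullbackFstIso f σ ι).inv.surjective),
        Scheme.Pullback.range_snd]
    exact (natCard_irreducibleComponents_congr (p.isEmbedding.toHomeomorph.trans (Homeomorph.setCongr hp))).symm
  rw [hm]
  refine ⟨hmpos, Spec (CommRingCat.of (Localization.Away g0)),
    Spec.map (CommRingCat.ofHom (algebraMap Γ(Z0, V) (Localization.Away g0))) ≫ hV.fromSpec ≫ ι, ?_⟩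
  haveI : IsOpenImmersion (Spec.map (CommRingCat.ofHom (algebraMap Γ(Z0, V) (Localization.Away g0)))) :=
    IsOpenImmersion.of_isLocalization g0
  haveI : IsOpenImmersion hV.fromSpec := hV.isOpenImmersion_fromSpec
  set b := Spec.map (CommRingCat.ofHom (algebraMap Γ(Z0, V) (Localization.Away g0))) ≫ hV.fromSpec with hb
  have hbV : Set.range b ⊆ V := by
    rintro _ ⟨t, rfl⟩
    rw [← hV.range_fromSpec]
    exact ⟨_, (Scheme.Hom.comp_apply _ _ t).symm⟩
  have hgf : (Spec.map (CommRingCat.ofHom (algebraMap Γ(Z0, V) (Localization.Away g0))) ≫ hV.fromSpec ≫ ι) ≫ f =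
      Spec.map (CommRingCat.ofHom (algebraMap k (Localization.Away g0))) := by
    rw [Category.assoc, Category.assoc, hψ', ← Spec.map_comp, IsScalarTower.algebraMap_eq k Γ(Z0, V)]
    rfl
  rw [← Category.assoc, ← hb]
  refine ⟨inferInstance, inferInstance, ?_, ?_, ?_, C, hC0, fun F _ _ _ => ?_⟩
  · obtain ⟨G, hG, hG'⟩ := ι.isEmbedding.isOpen_iff.1 b.isOpenEmbedding.isOpen_range
    have : Set.range (b ≫ ι) = (O : Set X) ∩ G := by
      ext y
      constructor
      · rintro ⟨t, rfl⟩
        rw [Scheme.Hom.comp_apply]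
        exact ⟨hVO (hbV ⟨t, rfl⟩), (Set.ext_iff.1 hG' (b t)).2 ⟨t, rfl⟩⟩
      · rintro ⟨hyO, hyG⟩
        obtain ⟨w, rfl⟩ : y ∈ Set.range ι := by rw [hr]; exact hOZ hyO
        obtain ⟨t, rfl⟩ := (Set.ext_iff.1 hG' w).1 hyG
        exact ⟨t, Scheme.Hom.comp_apply _ _ t⟩
    rw [this]
    exact O.2.inter hG
  · haveI : Nontrivial (Localization.Away g0) :=
      (IsLocalization.injective (Localization.Away g0)
        (powers_le_nonZeroDivisors_of_noZeroDivisors hg0)).nontrivial
    obtain ⟨t⟩ : Nonempty (PrimeSpectrum (Localization.Away g0)) := inferInstance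
    exact ⟨_, t, rfl⟩
  · rintro _ ⟨t, rfl⟩
    rw [Scheme.Hom.comp_apply]
    exact hVO (hbV ⟨t, rfl⟩)
  · have hcard : SgaExt.pointCount ((b ≫ ι) ≫ f) F = Nat.card {φ : Γ(Z0, V) →ₐ[k] F // φ g0 ≠ 0} := by
      have hgf' : (b ≫ ι) ≫ f = Spec.map (CommRingCat.ofHom (algebraMap k (Localization.Away g0))) := by
        rw [hb, ← hgf]; simp only [Category.assoc]
      let e1 : {φ : Γ(Z0, V) →ₐ[k] F // φ g0 ≠ 0} ≃ (Localization.Away g0 →ₐ[k] F) :=
        { toFun := fun φ => IsLocalization.liftAlgHom (M := Submonoid.powers g0) (f := φ.1) (fun y => by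
            obtain ⟨_, n, rfl⟩ := y
            rw [map_pow]
            exact (isUnit_iff_ne_zero.2 φ.2).pow n)
          invFun := fun χ => ⟨χ.comp (IsScalarTower.toAlgHom k Γ(Z0, V) _),
            ((IsLocalization.Away.algebraMap_isUnit g0).map χ).ne_zero⟩
          left_inv := fun φ => Subtype.ext (AlgHom.ext fun a => by simp)
          right_inv := fun χ => IsLocalization.algHom_ext (Submonoid.powers g0) (AlgHom.ext fun a => by simp) }
      rw [Nat.card_congr e1]
      unfold SgaExt.pointCount
      refine Nat.card_congr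
        { toFun := fun g => { toRingHom := (Spec.preimage g.1).hom, commutes' := fun c => ?_ }
          invFun := fun χ => ⟨Spec.map (CommRingCat.ofHom χ.toRingHom), by
            rw [hgf', ← Spec.map_comp]
            exact congrArg Spec.map (CommRingCat.hom_ext χ.comp_algebraMap)⟩
          left_inv := fun g => Subtype.ext (Spec.map_preimage g.1)
          right_inv := fun χ => AlgHom.ext fun a => by
            show (Spec.preimage (Spec.map (CommRingCat.ofHom χ.toRingHom))).hom a = χ a
            rw [Spec.preimage_map]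
            rfl }
      have h := (congrArg (g.1 ≫ ·) hgf').symm.trans g.2
      change g.1 ≫ Spec.map (CommRingCat.ofHom (algebraMap k (Localization.Away g0))) = _ at h
      rw [← Spec.map_preimage g.1, ← Spec.map_comp, Spec.map_inj] at h
      exact DFunLike.congr_fun (congrArg CommRingCat.Hom.hom h) c
    rw [hcard]
    exact hC F

end GrothLib.LangWeil28
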