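import Groth.Agent.Lib.LangWeil28.Piece
import Groth.Agent.Lib.Zeta.Bound
import Mathlib.AlgebraicGeometry.Noetherian

/-!
# Lang–Weil for a scheme over a finite field
-/

set_option autoImplicit false
set_option linter.all false
set_option backward.isDefEq.respectTransparency false

universe u

open CategoryTheory CategoryTheory.Limits AlgebraicGeometry TopologicalSpace
open scoped Classical

namespace GrothLib.LangWeil28

/-- A closed subset of full dimension contains a component of full dimension. -/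
theorem exists_component_subset {X : Type u} [TopologicalSpace X] {R : Set X} (hR : IsClosed R) (r : ℕ)
    (hX : topologicalKrullDim X ≤ r) (hr : (r : WithBot ℕ∞) ≤ topologicalKrullDim R) :
    ∃ Z ∈ irreducibleComponents X, Z ⊆ R ∧ topologicalKrullDim Z = r := by
  obtain ⟨l, hl⟩ := Order.le_krullDim_iff.1 hr
  let m := l.map (IrreducibleCloseds.map ((↑) : R → X) continuous_subtype_val)
    (IrreducibleCloseds.map_strictMono_of_isInducing Topology.IsInducing.subtypeVal)
  have hm : ((m.last : IrreducibleCloseds X) : Set X) ⊆ R := by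
    rw [LTSeries.last_map]
    exact closure_minimal (by rintro _ ⟨a, -, rfl⟩; exact a.2) hR
  obtain ⟨Z, hZ, hTZ⟩ := exists_mem_irreducibleComponents_subset_of_isIrreducible _ m.last.isIrreducible
  have hml : m.length = r := hl
  have hZT : (m.last : Set X) = Z := by
    by_contra hne
    let Zc : IrreducibleCloseds X := ⟨Z, hZ.1, isClosed_of_mem_irreducibleComponents Z hZ⟩
    have hlt : m.last < Zc := by
      refine lt_of_le_of_ne hTZ fun e => hne ?_
      rw [e]; rfl
    have h1 := (Order.LTSeries.length_le_krullDim (m.snoc Zc hlt)).trans hX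
    rw [RelSeries.snoc_length, hml] at h1
    exact absurd (Nat.cast_le.1 h1) (by omega)
  refine ⟨Z, hZ, hZT ▸ hm, le_antisymm ((topologicalKrullDim_subspace_le X Z).trans hX) ?_⟩
  have hsub : ∀ i, ((m.toFun i : IrreducibleCloseds X) : Set X) ⊆ Z := fun i => by
    rw [← hZT]
    exact m.monotone (Fin.le_last i)
  have hirr : ∀ i, IsIrreducible (((↑) : Z → X) ⁻¹' (m.toFun i : Set X)) := fun i => by
    obtain ⟨x, hx⟩ := (m.toFun i).isIrreducible.nonempty
    refine ⟨⟨⟨x, hsub i hx⟩, hx⟩, ?_⟩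
    rintro u v ⟨u', hu', rfl⟩ ⟨v', hv', rfl⟩ ⟨a, ha, hau⟩ ⟨b, hb, hbv⟩
    obtain ⟨c, hc, hcu, hcv⟩ := (m.toFun i).isIrreducible.2 u' v' hu' hv' ⟨a.1, ha, hau⟩ ⟨b.1, hb, hbv⟩
    exact ⟨⟨c, hsub i hc⟩, hc, hcu, hcv⟩
  let n : LTSeries (IrreducibleCloseds Z) :=
    { length := m.length
      toFun := fun i => ⟨_, hirr i, (m.toFun i).isClosed.preimage continuous_subtype_val⟩
      step := fun i => by
        obtain ⟨hle, x, hx, hx'⟩ := Set.ssubset_iff_exists.1
          (show (m.toFun i.castSucc : Set X) ⊂ m.toFun i.succ from SetLike.coe_ssubset_coe.2 (m.step i))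
        show LT.lt (α := IrreducibleCloseds Z) _ _
        refine (lt_iff_le_not_ge).2 ⟨?_, ?_⟩
        · exact fun a ha => hle ha
        · exact fun h => hx' (h (show (⟨x, hsub _ hx⟩ : Z) ∈ _ from hx)) }
  have := Order.LTSeries.length_le_krullDim n
  rwa [show n.length = r from hml] at this

variable {k : Type u} [Field k] {X : Scheme.{u}}

/-- The top components. -/
noncomputable def topComps (f : X ⟶ Spec (CommRingCat.of k)) [LocallyOfFiniteType f] [QuasiCompact f] (r : ℕ) :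
    Finset (Set X) :=
  have : CompactSpace X := QuasiCompact.compactSpace_of_compactSpace f
  have : IsLocallyNoetherian X := LocallyOfFiniteType.isLocallyNoetherian f
  have : IsNoetherian X := ⟨⟩
  (finite_irreducibleComponents_of_isNoetherian (X := X)).toFinset.filter fun Z => topologicalKrullDim Z = r

theorem mem_topComps {f : X ⟶ Spec (CommRingCat.of k)} [LocallyOfFiniteType f] [QuasiCompact f] {r : ℕ} {Z : Set X} :
    Z ∈ topComps f r ↔ Z ∈ irreducibleComponents X ∧ topologicalKrullDim Z = r := by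
  simp [topComps]

/-- The leading coefficient. -/
noncomputable def leading (f : X ⟶ Spec (CommRingCat.of k)) [LocallyOfFiniteType f] [QuasiCompact f] (r e : ℕ) : ℕ :=
  ∑ Z ∈ (topComps f r).filter (fun Z => compCount f Z ∣ e), compCount f Z

/-- Lang–Weil for a scheme over a finite field. -/
theorem exists_est_scheme [Finite k] (f : X ⟶ Spec (CommRingCat.of k)) [LocallyOfFiniteType f] [QuasiCompact f]
    (r : ℕ) (hr : topologicalKrullDim X = r) :
    (topComps f r).Nonempty ∧ (∀ Z ∈ topComps f r, 0 < compCount f Z) ∧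
    ∃ C : ℝ, 0 ≤ C ∧ ∀ e : ℕ, 1 ≤ e →
      |(_root_.Zeta.nPts f e : ℝ) - (leading f r e : ℕ) * (Nat.card k : ℝ) ^ (e * r)| ≤
          C * ((Nat.card k : ℝ) ^ (e * r) / Real.sqrt ((Nat.card k : ℝ) ^ e)) ∧
      (leading f r e = 0 → (_root_.Zeta.nPts f e : ℝ) ≤ C * ((Nat.card k : ℝ) ^ (e * r) / (Nat.card k : ℝ) ^ e)) := by
  haveI : CompactSpace X := QuasiCompact.compactSpace_of_compactSpace f
  haveI : IsLocallyNoetherian X := LocallyOfFiniteType.isLocallyNoetherian f
  haveI : IsNoetherian X := ⟨⟩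
  have hfin := finite_irreducibleComponents_of_isNoetherian (X := X)
  constructor
  · have hr' : topologicalKrullDim (Set.univ : Set X) = r :=
      ((Homeomorph.Set.univ X).isHomeomorph.topologicalKrullDim_eq _).trans hr
    obtain ⟨Z, hZ, -, hd⟩ := exists_component_subset isClosed_univ r hr.le hr'.ge
    exact ⟨Z, mem_topComps.2 ⟨hZ, hd⟩⟩
  let O : Set X → X.Opens := fun Z => ⟨(⋃₀ (irreducibleComponents X \ {Z}))ᶜ, by
    rw [isOpen_compl_iff, Set.sUnion_eq_biUnion]
    exact hfin.sdiff.isClosed_biUnion fun W hW => isClosed_of_mem_irreducibleComponents W hW.1⟩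
  have hOne : ∀ Z ∈ topComps f r, (Z ∩ (O Z : Set X)).Nonempty := fun Z hZ => by
    have hZ' := (mem_topComps.1 hZ).1
    by_contra h
    have hsub : Z ⊆ ⋃₀ (irreducibleComponents X \ {Z}) := fun x hx => by
      by_contra hx'
      exact h ⟨x, hx, hx'⟩
    exact (mem_of_subset_sUnion_irreducibleComponents Z hZ' _ hfin.sdiff Set.sdiff_subset hsub).2 rfl
  have hOsub : ∀ Z ∈ topComps f r, (O Z : Set X) ⊆ Z := fun Z hZ x hx => by
    obtain ⟨W, hW, hxW⟩ : x ∈ ⋃₀ irreducibleComponents X := by rw [sUnion_irreducibleComponents]; trivial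
    by_contra hxZ
    exact hx ⟨W, ⟨hW, fun e => hxZ ((Set.mem_singleton_iff.1 e) ▸ hxW)⟩, hxW⟩
  have key := fun Z (hZ : Z ∈ topComps f r) => exists_piece f Z
    (isClosed_of_mem_irreducibleComponents Z (mem_topComps.1 hZ).1) (mem_topComps.1 hZ).1.1 r
    (mem_topComps.1 hZ).2 (O Z) (hOne Z hZ) (hOsub Z hZ)
  choose hpos W g hgP hgL hgO hgN hgsub C hC0 hC using key
  refine ⟨hpos, ?_⟩
  -- the remainder
  let R : Closeds X := ⟨(⋃ Z : topComps f r, Set.range (g Z.1 Z.2))ᶜ,
    isClosed_compl_iff.2 (isOpen_iUnion fun Z => hgO Z.1 Z.2)⟩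
  let I := Scheme.IdealSheafData.vanishingIdeal R
  have hIr : Set.range I.subschemeι = (R : Set X) := RedSub.range_subschemeι_vanishingIdeal _
  let W' : Option (topComps f r) → Scheme.{u} := fun o => o.elim I.subscheme fun Z => W Z.1 Z.2
  let g' : ∀ o, W' o ⟶ X := fun o =>
    match o with
    | none => I.subschemeι
    | some Z => g Z.1 Z.2
  haveI hP : ∀ o, IsPreimmersion (g' o) := by
    rintro (_ | Z)
    · exact (inferInstance : IsPreimmersion I.subschemeι)
    · exact hgP Z.1 Z.2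
  haveI hL : ∀ o, LocallyOfFiniteType (g' o) := by
    rintro (_ | Z)
    · exact (inferInstance : LocallyOfFiniteType I.subschemeι)
    · exact hgL Z.1 Z.2
  have hdisj : ∀ (Z Z' : topComps f r) (x : X), x ∈ Set.range (g Z.1 Z.2) → x ∈ Set.range (g Z'.1 Z'.2) → Z = Z' := by
    intro Z Z' x h h'
    by_contra hne
    exact hgsub Z.1 Z.2 h ⟨Z'.1, ⟨(mem_topComps.1 Z'.2).1, fun e => hne (Subtype.ext (Set.mem_singleton_iff.1 e).symm)⟩,
      hOsub Z'.1 Z'.2 (hgsub Z'.1 Z'.2 h')⟩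
  have hpart : ∀ x : X, IsClosed ({x} : Set X) → ∃! o, x ∈ Set.range (g' o) := by
    intro x _
    by_cases hx : ∃ Z : topComps f r, x ∈ Set.range (g Z.1 Z.2)
    · obtain ⟨Z, hZ⟩ := hx
      refine ⟨some Z, hZ, ?_⟩
      rintro (_ | Z') h'
      · have : x ∈ (R : Set X) := hIr ▸ h'
        exact absurd (Set.mem_iUnion.2 ⟨Z, hZ⟩) this
      · exact congrArg some (hdisj Z' Z x h' hZ)
    · refine ⟨none, ?_, ?_⟩
      · show x ∈ Set.range I.subschemeι
        rw [hIr]
        exact fun h => hx (Set.mem_iUnion.1 h)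
      · rintro (_ | Z') h'
        · rfl
        · exact absurd ⟨Z', h'⟩ hx
  -- its dimension
  have hRdim : ∀ hn : 1 ≤ r, topologicalKrullDim I.subscheme ≤ (r - 1 : ℕ) ∧ True := by
    intro hn
    refine ⟨?_, trivial⟩
    rw [Dim.IsEmbedding.topologicalKrullDim_eq I.subschemeι.isEmbedding hIr]
    by_contra hcon
    have h2 : (r : WithBot ℕ∞) ≤ topologicalKrullDim (R : Set X) := by
      rcases hd : topologicalKrullDim (R : Set X) with _ | _ | d
      · exact absurd (hd ▸ bot_le) hcon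
      · exact le_top
      · rw [hd] at hcon
        have : ¬ d ≤ r - 1 := fun h => hcon (Nat.cast_le.2 h)
        exact Nat.cast_le.2 (show r ≤ d by omega)
    obtain ⟨Z, hZ, hZR, hd⟩ := exists_component_subset R.isClosed r hr.le h2
    obtain ⟨x, hx⟩ := hgN Z (mem_topComps.2 ⟨hZ, hd⟩)
    exact hZR (hOsub Z (mem_topComps.2 ⟨hZ, hd⟩) (hgsub _ _ hx)) (Set.mem_iUnion.2 ⟨⟨Z, mem_topComps.2 ⟨hZ, hd⟩⟩, hx⟩)
  have hR0 : r = 0 → IsEmpty I.subscheme := fun h0 => ⟨fun x => by
    have hx : I.subschemeι x ∈ (R : Set X) := hIr ▸ ⟨x, rfl⟩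
    haveI : Nonempty (R : Set X) := ⟨⟨_, hx⟩⟩
    obtain ⟨Z, hZ, hZR, hd⟩ := exists_component_subset R.isClosed r hr.le (by
      rw [h0]
      have : Nonempty (IrreducibleCloseds (R : Set X)) := ⟨⟨closure {⟨_, hx⟩}, isIrreducible_singleton.closure, isClosed_closure⟩⟩
      exact Order.krullDim_nonneg)
    obtain ⟨y, hy⟩ := hgN Z (mem_topComps.2 ⟨hZ, hd⟩)
    exact hZR (hOsub Z (mem_topComps.2 ⟨hZ, hd⟩) (hgsub _ _ hy)) (Set.mem_iUnion.2 ⟨⟨Z, mem_topComps.2 ⟨hZ, hd⟩⟩, hy⟩)⟩
  have hcR : ∃ c : ℝ, 0 ≤ c ∧ ∀ (F : Type u) [Field F] [Finite F] [Algebra k F],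
      (SgaExt.pointCount (I.subschemeι ≫ f) F : ℝ) ≤ c * ((Nat.card F : ℝ) ^ r / Nat.card F) := by
    rcases Nat.eq_zero_or_pos r with h0 | hn
    · refine ⟨0, le_rfl, fun F _ _ _ => ?_⟩
      have := hR0 h0
      have : IsEmpty {g : Spec (CommRingCat.of F) ⟶ I.subscheme //
          g ≫ I.subschemeι ≫ f = Spec.map (CommRingCat.ofHom (algebraMap k F))} :=
        ⟨fun g => isEmptyElim (g.1 default)⟩
      simp [SgaExt.pointCount]
    · obtain ⟨c, hc⟩ := Zeta.exists_pointCount_le (I.subschemeι ≫ f) (r - 1) (hRdim hn).1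
      refine ⟨c, Nat.cast_nonneg c, fun F _ _ _ => (Nat.cast_le.2 (hc F)).trans_eq ?_⟩
      obtain ⟨n, rfl⟩ : ∃ n, r = n + 1 := ⟨r - 1, by omega⟩
      have : (Nat.card F : ℝ) ≠ 0 := Nat.cast_ne_zero.2 Nat.card_pos.ne'
      push_cast
      rw [pow_succ, mul_div_assoc, div_self this, mul_one]
  obtain ⟨c, hc0, hc⟩ := hcR
  refine ⟨(∑ Z : topComps f r, C Z.1 Z.2) + c, add_nonneg (Finset.sum_nonneg fun Z _ => hC0 _ _) hc0, fun e he => ?_⟩
  obtain ⟨F, _, _, _, hF⟩ := Zeta.exists_extension k e he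
  haveI : Module.Finite k F := Module.Finite.of_finite
  have hq : (Nat.card F : ℝ) = (Nat.card k : ℝ) ^ e := by
    rw [Module.natCard_eq_pow_finrank (K := k) (V := F), hF]; push_cast; rfl
  have hsum : (_root_.Zeta.nPts f e : ℝ) = (SgaExt.pointCount (I.subschemeι ≫ f) F : ℝ) +
      ∑ Z : topComps f r, (SgaExt.pointCount (g Z.1 Z.2 ≫ f) F : ℝ) := by
    have h1 : _root_.Zeta.nPts f e = ∑ o, _root_.Zeta.nPts (g' o ≫ f) e := by
      simp only [_root_.Zeta.nPts, Zeta.degCount_eq_sum_of_partition f W' g' hpart, Finset.mul_sum]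
      rw [Finset.sum_comm]
    rw [h1, Fintype.sum_option, Nat.cast_add, Nat.cast_sum, Zeta.pointCount_eq_nPts (I.subschemeι ≫ f) F, hF]
    refine congrArg _ (Finset.sum_congr rfl fun Z _ => ?_)
    haveI := hgP Z.1 Z.2
    haveI := hgL Z.1 Z.2
    haveI : NoetherianSpace (W Z.1 Z.2) := (g Z.1 Z.2).isEmbedding.isInducing.noetherianSpace
    haveI : QuasiCompact (g Z.1 Z.2 ≫ f) := (quasiCompact_iff_compactSpace _).2 inferInstance
    rw [Zeta.pointCount_eq_nPts (g Z.1 Z.2 ≫ f) F, hF]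
  set q : ℝ := (Nat.card F : ℝ) with hqdef
  have hq1 : 1 ≤ q := Nat.one_le_cast.2 Nat.card_pos
  have hR' := hc F
  have hs : q ^ r / q ≤ q ^ r / Real.sqrt q :=
    div_le_div_of_nonneg_left (by positivity) (Real.sqrt_pos.2 (by linarith))
      (Real.sqrt_le_iff.2 ⟨by linarith, by nlinarith⟩)
  have hlead : ((leading f r e : ℕ) : ℝ) =
      ∑ Z : topComps f r, (if compCount f Z.1 ∣ e then (compCount f Z.1 : ℝ) else 0) := by
    rw [leading, Finset.sum_filter, ← Finset.sum_coe_sort]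
    push_cast
    rfl
  rw [pow_mul, ← hq, hsum]
  constructor
  · rw [hlead, Finset.sum_mul]
    have hb : ∀ Z : topComps f r, |(SgaExt.pointCount (g Z.1 Z.2 ≫ f) F : ℝ) -
        (if compCount f Z.1 ∣ e then (compCount f Z.1 : ℝ) else 0) * q ^ r| ≤ C Z.1 Z.2 * (q ^ r / Real.sqrt q) := by
      intro Z
      split_ifs with hd
      · exact (hC Z.1 Z.2 F).2 (by rw [hF]; exact hd)
      · rw [(hC Z.1 Z.2 F).1 (by rw [hF]; exact hd)]
        simpa using mul_nonneg (hC0 Z.1 Z.2) (by positivity : 0 ≤ q ^ r / Real.sqrt q)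
    rw [add_sub_assoc, ← Finset.sum_sub_distrib]
    refine (abs_add_le _ _).trans ?_
    rw [add_mul, add_comm ((∑ Z : topComps f r, C Z.1 Z.2) * _), Finset.sum_mul, Nat.abs_cast]
    exact add_le_add (hR'.trans (mul_le_mul_of_nonneg_left hs hc0))
      ((Finset.abs_sum_le_sum_abs _ _).trans (Finset.sum_le_sum fun Z _ => hb Z))
  · intro h0
    have hz : ∀ Z : topComps f r, SgaExt.pointCount (g Z.1 Z.2 ≫ f) F = 0 := fun Z => (hC Z.1 Z.2 F).1 fun hd => by
      have := Finset.sum_eq_zero_iff.1 h0 Z.1 (Finset.mem_filter.2 ⟨Z.2, hF ▸ hd⟩)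
      exact (hpos Z.1 Z.2).ne' this
    simp only [hz, Nat.cast_zero, Finset.sum_const_zero, add_zero]
    exact hR'.trans (mul_le_mul_of_nonneg_right
      (le_add_of_nonneg_left (Finset.sum_nonneg fun Z _ => hC0 _ _)) (by positivity))

end GrothLib.LangWeil28
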