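import Mathlib.RingTheory.Adjoin.FG
import Mathlib.RingTheory.Algebraic.Basic
import Mathlib.Algebra.Algebra.Subalgebra.Tower
import Mathlib.Data.Set.Card
import Mathlib.RingTheory.FiniteType
import Mathlib.Analysis.SpecialFunctions.Sqrt

/-!
# Localisations inside a field and their homomorphisms
-/

set_option autoImplicit false
set_option linter.all false

universe u

namespace GrothLib.LangWeil28

variable {S : Type u} [CommRing S] {L : Type u} [Field L] [Algebra S L]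

/-- `B[1/h]` inside the field. -/
def inv' (B : Subalgebra S L) (h : L) : Subalgebra S L := Algebra.adjoin S (insert h⁻¹ (B : Set L))

/-- The field is the field of fractions. -/
def Gen (B : Subalgebra S L) : Prop := ∀ z : L, ∃ a ∈ B, ∃ b ∈ B, b ≠ 0 ∧ z = a / b

variable {A B : Subalgebra S L} {h g : L}

theorem le_inv' (B : Subalgebra S L) (h : L) : B ≤ inv' B h := fun _ hz =>
  Algebra.subset_adjoin (Set.mem_insert_of_mem _ hz)

theorem inv_mem_inv' (B : Subalgebra S L) (h : L) : h⁻¹ ∈ inv' B h :=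
  Algebra.subset_adjoin (Set.mem_insert _ _)

theorem inv'_le {C : Subalgebra S L} (hB : B ≤ C) (hh : h⁻¹ ∈ C) : inv' B h ≤ C :=
  Algebra.adjoin_le (Set.insert_subset hh hB)

theorem exists_eq_div (hh : h ∈ B) (h0 : h ≠ 0) {z : L} (hz : z ∈ inv' B h) :
    ∃ b ∈ B, ∃ n : ℕ, z = b / h ^ n := by
  induction hz using Algebra.adjoin_induction with
  | mem z hz =>
    rcases hz with rfl | hz
    · exact ⟨1, one_mem _, 1, by rw [pow_one, one_div]⟩
    · exact ⟨z, hz, 0, by rw [pow_zero, div_one]⟩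
  | algebraMap c => exact ⟨_, B.algebraMap_mem c, 0, by rw [pow_zero, div_one]⟩
  | add a b _ _ ha hb =>
    obtain ⟨p, hp, m, rfl⟩ := ha
    obtain ⟨q, hq, n, rfl⟩ := hb
    exact ⟨p * h ^ n + h ^ m * q, add_mem (mul_mem hp (pow_mem hh n)) (mul_mem (pow_mem hh m) hq), m + n,
      by rw [div_add_div _ _ (pow_ne_zero _ h0) (pow_ne_zero _ h0), pow_add]⟩
  | mul a b _ _ ha hb =>
    obtain ⟨p, hp, m, rfl⟩ := ha
    obtain ⟨q, hq, n, rfl⟩ := hb
    exact ⟨p * q, mul_mem hp hq, m + n, by rw [div_mul_div_comm, pow_add]⟩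

theorem inv_mem_of_mul {C : Subalgebra S L} {a b : L} (ha : a ∈ C) (hb0 : b ≠ 0) (ha0 : a ≠ 0)
    (h : (a * b)⁻¹ ∈ C) : b⁻¹ ∈ C := by
  have e : b⁻¹ = a * (a * b)⁻¹ := by rw [mul_inv, ← mul_assoc, mul_inv_cancel₀ ha0, one_mul]
  rw [e]
  exact mul_mem ha h

theorem inv'_inv' {e : L} (hh : h ∈ B) (h0 : h ≠ 0) (he : e ∈ B) (e0 : e ≠ 0) :
    inv' (inv' B h) e = inv' B (h * e) := by
  refine le_antisymm (inv'_le (inv'_le (le_inv' _ _) ?_) ?_) (inv'_le ((le_inv' _ _).trans (le_inv' _ _)) ?_)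
  · refine inv_mem_of_mul (le_inv' _ _ he) h0 e0 ?_
    rw [mul_comm e h]
    exact inv_mem_inv' _ _
  · exact inv_mem_of_mul (le_inv' _ _ hh) e0 h0 (inv_mem_inv' _ _)
  · rw [mul_inv]
    exact mul_mem (le_inv' _ _ (inv_mem_inv' _ _)) (inv_mem_inv' _ _)

/-- Shrinking twice is shrinking once. -/
theorem exists_inv'_inv' (hh : h ∈ B) (h0 : h ≠ 0) {e : L} (he : e ∈ inv' B h) (e0 : e ≠ 0) :
    ∃ g ∈ B, g ≠ 0 ∧ inv' (inv' B h) e = inv' B g := by
  obtain ⟨b, hb, n, rfl⟩ := exists_eq_div hh h0 he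
  have b0 : b ≠ 0 := fun h => e0 (by rw [h, zero_div])
  refine ⟨h * b, mul_mem hh hb, mul_ne_zero h0 b0, ?_⟩
  rw [← inv'_inv' hh h0 hb b0]
  refine le_antisymm (inv'_le (le_inv' _ _) ?_) (inv'_le (le_inv' _ _) ?_)
  · rw [inv_div, div_eq_mul_inv]
    exact mul_mem (le_inv' _ _ (le_inv' _ _ (pow_mem hh n))) (inv_mem_inv' _ _)
  · rw [show b⁻¹ = (b / h ^ n)⁻¹ * h⁻¹ ^ n by rw [inv_div, inv_pow]; field_simp]
    exact mul_mem (inv_mem_inv' _ _) (le_inv' _ _ (pow_mem (inv_mem_inv' _ _) n))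

theorem exists_le_inv' (hA : A.FG) (hB : Gen B) : ∃ h ∈ B, h ≠ 0 ∧ A ≤ inv' B h := by
  classical
  obtain ⟨T, rfl⟩ := hA
  choose a ha b hb hb0 hab using hB
  refine ⟨∏ t ∈ T, b t, prod_mem fun t _ => hb t, Finset.prod_ne_zero_iff.2 fun t _ => hb0 t,
    Algebra.adjoin_le fun t ht => ?_⟩
  have e : t = a t * (∏ s ∈ T.erase t, b s) * (∏ s ∈ T, b s)⁻¹ := by
    conv_lhs => rw [hab t]
    rw [← Finset.mul_prod_erase T b ht]
    have : (∏ s ∈ T.erase t, b s) ≠ 0 := Finset.prod_ne_zero_iff.2 fun s _ => hb0 s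
    field_simp
  show t ∈ inv' B _
  rw [e]
  exact mul_mem (le_inv' _ _ (mul_mem (ha t) (prod_mem fun s _ => hb s))) (inv_mem_inv' _ _)

/-- Two finitely generated models have a common localisation. -/
theorem exists_common (hA : A.FG) (hA' : Gen A) (hB : B.FG) (hB' : Gen B) :
    ∃ g ∈ A, g ≠ 0 ∧ ∃ h ∈ B, h ≠ 0 ∧ inv' A g = inv' B h := by
  obtain ⟨h₁, hh₁, h₁0, hle⟩ := exists_le_inv' hA hB'
  have hB1 : (inv' B h₁).FG := by
    obtain ⟨T, rfl⟩ := hB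
    classical
    refine ⟨insert h₁⁻¹ T, ?_⟩
    rw [inv', Finset.coe_insert, Algebra.adjoin_insert_adjoin]
  obtain ⟨g₁, hg₁, g₁0, hle'⟩ := exists_le_inv' hB1 hA'
  obtain ⟨p, hp, n, hpn⟩ := exists_eq_div hh₁ h₁0 (hle hg₁)
  have p0 : p ≠ 0 := fun h => g₁0 (by rw [hpn, h, zero_div])
  refine ⟨g₁, hg₁, g₁0, h₁ * p, mul_mem hh₁ hp, mul_ne_zero h₁0 p0,
    le_antisymm (inv'_le (hle.trans (inv'_le (le_inv' _ _) ?_)) ?_)
      (inv'_le ((le_inv' B h₁).trans hle') ?_)⟩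
  · refine inv_mem_of_mul (le_inv' _ _ hp) h₁0 p0 ?_
    rw [mul_comm p h₁]
    exact inv_mem_inv' _ _
  · rw [hpn, inv_div]
    rw [show h₁ ^ n / p = h₁ ^ n * h₁ * (h₁ * p)⁻¹ by field_simp]
    exact mul_mem (le_inv' _ _ (mul_mem (pow_mem hh₁ n) hh₁)) (inv_mem_inv' _ _)
  · rw [mul_inv, show p⁻¹ = g₁⁻¹ * h₁⁻¹ ^ n by rw [hpn, inv_div, inv_pow]; field_simp]
    exact mul_mem (hle' (inv_mem_inv' _ _)) (mul_mem (inv_mem_inv' _ _) (pow_mem (hle' (inv_mem_inv' _ _)) n))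

theorem fg_inv' (hB : B.FG) (h : L) : (inv' B h).FG := by
  obtain ⟨T, rfl⟩ := hB
  classical
  exact ⟨insert h⁻¹ T, by rw [inv', Finset.coe_insert, Algebra.adjoin_insert_adjoin]⟩

theorem Gen.mono (hB : Gen B) {C : Subalgebra S L} (h : B ≤ C) : Gen C := fun z => by
  obtain ⟨a, ha, b, hb, hb0, e⟩ := hB z
  exact ⟨a, h ha, b, h hb, hb0, e⟩

/-- Homomorphisms out of a localisation. -/
theorem bijective_restrict {F : Type u} [Field F] [Algebra S F] (hh : h ∈ B) (h0 : h ≠ 0) :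
    Function.Bijective (fun φ : inv' B h →ₐ[S] F =>
      (⟨φ.comp (Subalgebra.inclusion (le_inv' B h)), fun e => by
        have h1 : (⟨h, le_inv' B h hh⟩ : inv' B h) * ⟨h⁻¹, inv_mem_inv' B h⟩ = 1 :=
          Subtype.ext (mul_inv_cancel₀ h0)
        have h2 := congrArg φ h1
        have e' : φ ⟨h, le_inv' B h hh⟩ = 0 := e
        rw [map_mul, map_one, e', zero_mul] at h2
        exact zero_ne_one h2⟩ : {ψ : B →ₐ[S] F // ψ ⟨h, hh⟩ ≠ 0})) := by
  constructor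
  · intro φ φ' e
    have e1 : φ.comp (Subalgebra.inclusion (le_inv' B h)) = φ'.comp (Subalgebra.inclusion (le_inv' B h)) :=
      congrArg Subtype.val e
    refine AlgHom.ext fun ⟨z, hz⟩ => ?_
    obtain ⟨b, hb, n, rfl⟩ := exists_eq_div hh h0 hz
    have key : ∀ χ : inv' B h →ₐ[S] F,
        χ ⟨b / h ^ n, hz⟩ * χ ⟨h, le_inv' B h hh⟩ ^ n = χ ⟨b, le_inv' B h hb⟩ := fun χ => by
      rw [← map_pow, ← map_mul]
      congr 1
      exact Subtype.ext (div_mul_cancel₀ _ (pow_ne_zero _ h0))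
    have hne : φ ⟨h, le_inv' B h hh⟩ ≠ 0 := fun e0 => by
      have h2 := congrArg φ (show (⟨h, le_inv' B h hh⟩ : inv' B h) * ⟨h⁻¹, inv_mem_inv' B h⟩ = 1 from
        Subtype.ext (mul_inv_cancel₀ h0))
      rw [map_mul, map_one, e0, zero_mul] at h2
      exact zero_ne_one h2
    refine mul_right_cancel₀ (pow_ne_zero n hne) ?_
    rw [key, show φ ⟨h, le_inv' B h hh⟩ = φ' ⟨h, le_inv' B h hh⟩ from DFunLike.congr_fun e1 ⟨h, hh⟩, key]
    exact DFunLike.congr_fun e1 ⟨b, hb⟩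
  · rintro ⟨ψ, hψ⟩
    choose b hb n hn using fun z : inv' B h => exists_eq_div hh h0 z.2
    let v : inv' B h → F := fun z => ψ ⟨b z, hb z⟩ / ψ ⟨h, hh⟩ ^ n z
    have hv : ∀ (z : inv' B h) (c : L) (hc : c ∈ B) (m : ℕ), (z : L) = c / h ^ m →
        v z = ψ ⟨c, hc⟩ / ψ ⟨h, hh⟩ ^ m := by
      intro z c hc m hz
      rw [div_eq_div_iff (pow_ne_zero _ hψ) (pow_ne_zero _ hψ), ← map_pow, ← map_pow, ← map_mul, ← map_mul]
      congr 1
      refine Subtype.ext ?_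
      exact (div_eq_div_iff (pow_ne_zero _ h0) (pow_ne_zero _ h0)).1 ((hn z).symm.trans hz)
    have hB : ∀ (c : L) (hc : c ∈ B), v ⟨c, le_inv' B h hc⟩ = ψ ⟨c, hc⟩ := fun c hc => by
      rw [hv _ c hc 0 (by rw [pow_zero, div_one]), pow_zero, div_one]
    let φ : inv' B h →ₐ[S] F :=
      { toFun := v
        map_one' := (hB 1 (one_mem _)).trans (map_one ψ)
        map_zero' := (hB 0 (zero_mem _)).trans (map_zero ψ)
        map_mul' := fun z w => by
          rw [hv (z * w) (b z * b w) (mul_mem (hb z) (hb w)) (n z + n w) (by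
            rw [Subalgebra.coe_mul, hn z, hn w, div_mul_div_comm, pow_add])]
          show ψ (⟨b z, hb z⟩ * ⟨b w, hb w⟩) / _ = _
          rw [map_mul, pow_add, ← div_mul_div_comm]
        map_add' := fun z w => by
          rw [hv (z + w) (b z * h ^ n w + h ^ n z * b w)
            (add_mem (mul_mem (hb z) (pow_mem hh _)) (mul_mem (pow_mem hh _) (hb w))) (n z + n w) (by
            rw [Subalgebra.coe_add, hn z, hn w, div_add_div _ _ (pow_ne_zero _ h0) (pow_ne_zero _ h0), pow_add])]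
          show ψ (⟨b z, hb z⟩ * ⟨h, hh⟩ ^ n w + ⟨h, hh⟩ ^ n z * ⟨b w, hb w⟩) / _ = _
          rw [map_add, map_mul, map_mul, map_pow, map_pow, pow_add,
            ← div_add_div _ _ (pow_ne_zero _ hψ) (pow_ne_zero _ hψ)]
        commutes' := fun c => (hB _ (B.algebraMap_mem c)).trans (ψ.commutes c) }
    exact ⟨φ, Subtype.ext (AlgHom.ext fun ⟨c, hc⟩ => hB c hc)⟩

/-- The estimate `#Hom(B, F) = q^r + O(q^(r - 1/2))`. -/
def Est (r : ℕ) (B : Subalgebra S L) : Prop :=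
  ∃ s : S, s ≠ 0 ∧ ∃ C : ℝ, ∀ (F : Type u) [Field F] [Finite F] [Algebra S F], algebraMap S F s ≠ 0 →
    |(Nat.card (B →ₐ[S] F) : ℝ) - (Nat.card F : ℝ) ^ r| ≤
      C * ((Nat.card F : ℝ) ^ r / Real.sqrt (Nat.card F))

end GrothLib.LangWeil28
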