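import Groth.Agent.Lib.LangWeil28.Curve
import Groth.Agent.Lib.LangWeil28.Subalg
import Groth.Agent.Lib.GeomIrr6.Poly
import Mathlib.RingTheory.AdjoinRoot
import Mathlib.RingTheory.Algebraic.Integral

/-!
# The induction step of the point count
-/

set_option autoImplicit false
set_option linter.all false
set_option backward.isDefEq.respectTransparency false

universe u

open Polynomial Polynomial.Bivariate

namespace GrothLib.LangWeil28

variable {S : Type u} [CommRing S]

theorem finite_algHom {A F : Type u} [CommRing A] [Algebra S A] [Algebra.FiniteType S A] [Field F] [Finite F]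
    [Algebra S F] : Finite (A →ₐ[S] F) := by
  obtain ⟨n, π, hπ⟩ := Algebra.FiniteType.iff_quotient_mvPolynomial''.mp ‹Algebra.FiniteType S A›
  exact Finite.of_injective (fun φ (j : Fin n) => φ (π (MvPolynomial.X j))) fun φ φ' h =>
    AlgHom.ext fun a => by
      obtain ⟨p, rfl⟩ := hπ a
      exact DFunLike.congr_fun (MvPolynomial.algHom_ext (f := φ.comp π) (g := φ'.comp π)
        fun j => congrFun h j) p

theorem map_equivMv {R R' : Type u} [CommRing R] [CommRing R'] (φ : R →+* R') (G : R[X][Y]) :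
    MvPolynomial.map φ (equivMvPolynomial R G) = equivMvPolynomial R' (G.map (mapRingHom φ)) := by
  have : (MvPolynomial.map (σ := Fin 2) φ).comp (equivMvPolynomial R : R[X][Y] ≃ₐ[R] _).toRingEquiv.toRingHom =
      (equivMvPolynomial R' : R'[X][Y] ≃ₐ[R'] _).toRingEquiv.toRingHom.comp (mapRingHom (mapRingHom φ)) := by
    refine Polynomial.ringHom_ext' (Polynomial.ringHom_ext (fun a => ?_) ?_) ?_ <;> simp
  exact DFunLike.congr_fun this G

theorem le_natDegree_map {R R' : Type u} [CommRing R] [CommRing R'] (φ : R →+* R') (G : R[X][Y]) (D : ℕ)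
    (h : ∀ j, (G.coeff j).natDegree ≤ D) (j : ℕ) : ((G.map (mapRingHom φ)).coeff j).natDegree ≤ D := by
  rw [coeff_map, coe_mapRingHom]
  exact natDegree_map_le.trans (h j)

variable {L M : Type u} [Field L] [Field M] [Algebra S M] [Algebra S L] [Algebra M L] [IsScalarTower S M L]

section Model

variable (R : Type u) [CommRing R] [Algebra S R] [Algebra R L] [IsScalarTower S R L] (x θ : L)

/-- Evaluation at `(x, θ)`. -/
noncomputable def ev : R[X][Y] →ₐ[S] L := (aevalAeval (R := R) x θ).restrictScalars S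

/-- Specialisation at a point of `R` and a point of the plane. -/
noncomputable def spec {F : Type u} [Field F] [Algebra S F] (v : R →ₐ[S] F) (a b : F) : R[X][Y] →+* F :=
  (evalEvalRingHom a b).comp (mapRingHom (mapRingHom (v : R →+* F)))

theorem spec_apply {F : Type u} [Field F] [Algebra S F] (v : R →ₐ[S] F) (a b : F) (G : R[X][Y]) :
    spec R v a b G = (G.map (mapRingHom (v : R →+* F))).evalEval a b := rfl

variable {R x θ} {fR : R[X][Y]} (hkR : ∀ G, ev (S := S) R x θ G = 0 ↔ fR ∣ G)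

include hkR in
/-- Points of the model are pairs of a point of the base and a point of the fibre. -/
theorem card_hom_model [Algebra.FiniteType S R] {F : Type u} [Field F] [Finite F] [Algebra S F] (G : R[X][Y])
    [Fintype (R →ₐ[S] F)] :
    Nat.card {φ : (ev (S := S) R x θ).range →ₐ[S] F // φ ⟨ev (S := S) R x θ G, G, rfl⟩ ≠ 0} =
      ∑ v : R →ₐ[S] F, Nat.card {p : F × F //
        (fR.map (mapRingHom (v : R →+* F))).evalEval p.1 p.2 = 0 ∧
        (G.map (mapRingHom (v : R →+* F))).evalEval p.1 p.2 ≠ 0} := by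
  classical
  rw [← Nat.card_sigma]
  let π := (ev (S := S) R x θ).rangeRestrict
  have hπ : Function.Surjective π := (ev (S := S) R x θ).rangeRestrict_surjective
  let cst : R →ₐ[S] (ev (S := S) R x θ).range := π.comp (IsScalarTower.toAlgHom S R R[X][Y])
  have key : ∀ (φ : (ev (S := S) R x θ).range →ₐ[S] F) (H : R[X][Y]),
      φ (π H) = spec R (φ.comp cst) (φ (π (C X))) (φ (π Y)) H := by
    intro φ H
    have : (φ.comp π).toRingHom = spec R (φ.comp cst) (φ (π (C X))) (φ (π Y)) := by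
      refine Polynomial.ringHom_ext' (Polynomial.ringHom_ext (fun a => ?_) ?_) ?_
      · simp [spec, cst]
      · simp [spec]
      · simp [spec]
    exact DFunLike.congr_fun this H
  have hker : ∀ (v : R →ₐ[S] F) (a b : F), spec R v a b fR = 0 → ∀ H, ev (S := S) R x θ H = 0 → spec R v a b H = 0 :=
    fun v a b h H hH => by
      obtain ⟨Q, rfl⟩ := (hkR H).1 hH
      rw [map_mul, h, zero_mul]
  have hex : ∀ (v : R →ₐ[S] F) (a b : F), spec R v a b fR = 0 →
      ∃ φ : (ev (S := S) R x θ).range →ₐ[S] F, ∀ H, φ (π H) = spec R v a b H := by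
    intro v a b h
    let Ψ : R[X][Y] →ₐ[S] F :=
      { spec R v a b with
        commutes' := fun c => by
          show spec R v a b (algebraMap S R[X][Y] c) = _
          rw [IsScalarTower.algebraMap_apply S R R[X][Y]]
          simp [spec] }
    have hle : RingHom.ker π ≤ RingHom.ker Ψ := fun H hH => by
      rw [RingHom.mem_ker] at hH ⊢
      exact hker v a b h H (congrArg Subtype.val hH)
    let e := Ideal.quotientKerAlgEquivOfSurjective hπ
    refine ⟨(Ideal.Quotient.liftₐ (RingHom.ker π) Ψ fun H hH => hle hH).comp e.symm.toAlgHom, fun H => ?_⟩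
    show (Ideal.Quotient.liftₐ (RingHom.ker π) Ψ fun H hH => hle hH) (e.symm (π H)) = _
    have : e.symm (π H) = Ideal.Quotient.mk _ H := by
      rw [AlgEquiv.symm_apply_eq]
      rfl
    rw [this]
    rfl
  choose mk hmk using hex
  have hπG : π G = ⟨ev (S := S) R x θ G, G, rfl⟩ := rfl
  refine Nat.card_congr
    { toFun := fun φ => ⟨φ.1.comp cst, (φ.1 (π (C X)), φ.1 (π Y)), by
        rw [← spec_apply, ← key, show π fR = 0 from Subtype.ext ((hkR fR).2 dvd_rfl), map_zero], by
        rw [← spec_apply, ← key, hπG]; exact φ.2⟩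
      invFun := fun s => ⟨mk s.1 s.2.1.1 s.2.1.2 s.2.2.1, by rw [← hπG, hmk]; exact s.2.2.2⟩
      left_inv := fun φ => Subtype.ext (AlgHom.ext fun z => by
        obtain ⟨H, rfl⟩ := hπ z
        show mk _ _ _ _ (π H) = _
        rw [hmk, key φ.1])
      right_inv := fun s => by
        obtain ⟨v, ⟨a, b⟩, h⟩ := s
        refine Sigma.subtype_ext (AlgHom.ext fun r => ?_) (Prod.ext ?_ ?_)
        · show mk v a b h.1 (π (IsScalarTower.toAlgHom S R R[X][Y] r)) = v r
          rw [hmk]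
          simp [spec]
        · show mk v a b h.1 (π (C X)) = a
          rw [hmk]
          simp [spec]
        · show mk v a b h.1 (π Y) = b
          rw [hmk]
          simp [spec] }

include hkR in
theorem exists_bezout [IsDomain R] (hmon : fR.Monic) (hn : 0 < fR.natDegree) (H : R[X][Y]) (hH : ev (S := S) R x θ H ≠ 0) :
    ∃ (c : R[X]) (U V : R[X][Y]), c ≠ 0 ∧ U * fR + V * H = C c := by
  have hker : Ideal.span {fR} = RingHom.ker (ev (S := S) R x θ) := by
    ext G
    exact Ideal.mem_span_singleton.trans ((hkR G).symm.trans RingHom.mem_ker.symm)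
  haveI : (Ideal.span {fR}).IsPrime := hker ▸ RingHom.ker_isPrime _
  haveI : IsDomain (AdjoinRoot fR) := Ideal.Quotient.isDomain (Ideal.span {fR})
  haveI : Module.Finite R[X] (AdjoinRoot fR) := hmon.finite_adjoinRoot
  have h0 : AdjoinRoot.mk fR H ≠ 0 := fun h => hH ((hkR H).2 (AdjoinRoot.mk_eq_zero.1 h))
  obtain ⟨c, hc, hdvd⟩ := (IsIntegral.of_finite R[X] (AdjoinRoot.mk fR H)).isAlgebraic.exists_nonzero_dvd
    (mem_nonZeroDivisors_of_ne_zero h0)
  obtain ⟨q, hq⟩ := hdvd
  obtain ⟨V, rfl⟩ := AdjoinRoot.mk_surjective q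
  rw [AdjoinRoot.algebraMap_eq, ← AdjoinRoot.mk_C, ← map_mul, AdjoinRoot.mk_eq_mk] at hq
  obtain ⟨U, hU⟩ := hq
  exact ⟨c, U, V, hc, by rw [mul_comm U, ← hU]; ring⟩

end Model

variable (x θ : L) (f : M[X][Y]) {r : ℕ}

/-- The fibration step. -/
theorem step (hmon : f.Monic) (hn : 0 < f.natDegree)
    (hker : ∀ G : M[X][Y], aevalAeval x θ G = 0 ↔ f ∣ G)
    (hgeom : Irreducible (MvPolynomial.map (algebraMap M (AlgebraicClosure M)) (equivMvPolynomial M f)))
    (hsep : aevalAeval x θ (derivative f) ≠ 0)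
    (hgen : IntermediateField.adjoin M ({x, θ} : Set L) = ⊤)
    (R₀ : Subalgebra S M) (hR₀ : R₀.FG) (hR₀' : Gen R₀)
    (IH : ∀ R : Subalgebra S M, R.FG → Gen R → ∃ g ∈ R, g ≠ 0 ∧ Est r (inv' R g))
    (A : Subalgebra S L) (hA : A.FG) (hA' : Gen A) :
    ∃ g ∈ A, g ≠ 0 ∧ Est (r + 1) (inv' A g) := by
  classical
  -- a model of the base containing the coefficients
  let cs : Finset M := f.support.biUnion fun j => (f.coeff j).support.image fun i => (f.coeff j).coeff i
  let R := R₀ ⊔ Algebra.adjoin S (cs : Set M)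
  have hR : R.FG := hR₀.sup ⟨cs, rfl⟩
  have hR' : Gen R := hR₀'.mono le_sup_left
  have hcoef : ∀ i j, (f.coeff j).coeff i ∈ R := fun i j => by
    by_cases hj : f.coeff j = 0
    · rw [hj, coeff_zero]; exact zero_mem R
    by_cases hi : (f.coeff j).coeff i = 0
    · rw [hi]; exact zero_mem R
    · exact le_sup_right (a := R₀) (Algebra.subset_adjoin (Finset.mem_biUnion.2
        ⟨j, mem_support_iff.2 hj, Finset.mem_image.2 ⟨i, mem_support_iff.2 hi, rfl⟩⟩))
  let jR : R →+* M := R.val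
  have hjR : Function.Injective jR := Subtype.val_injective
  obtain ⟨fR, hfR, -, hfRm⟩ := lifts_and_degree_eq_and_monic
    (f := mapRingHom jR) ((lifts_iff_coeff_lifts _).2 fun j => by
      obtain ⟨q, hq⟩ := (lifts_iff_coeff_lifts (f := jR) (f.coeff j)).2 fun i => ⟨⟨_, hcoef i j⟩, rfl⟩
      exact ⟨q, hq⟩) hmon
  have hevM : ∀ G : R[X][Y], ev (S := S) R x θ G = aevalAeval x θ (G.map (mapRingHom jR)) := by
    intro G
    have : (ev (S := S) R x θ).toRingHom = (aevalAeval x θ : M[X][Y] →ₐ[M] L).toRingHom.comp (mapRingHom (mapRingHom jR)) := by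
      refine Polynomial.ringHom_ext' (Polynomial.ringHom_ext (fun a => ?_) ?_) ?_
      · simp [ev, jR]
        rfl
      · simp [ev]
      · simp [ev]
    exact DFunLike.congr_fun this G
  have hkR : ∀ G, ev (S := S) R x θ G = 0 ↔ fR ∣ G := fun G => by
    rw [hevM, hker, ← hfR]
    exact map_dvd_map _ (Polynomial.map_injective _ hjR) hfRm
  have hnR : fR.natDegree = f.natDegree := by rw [← hfR, hfRm.natDegree_map]
  let B := (ev (S := S) R x θ).range
  haveI : Algebra.FiniteType S R := ⟨(Subalgebra.fg_top R).2 hR⟩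
  have hB : B.FG := by
    haveI : Algebra.FiniteType S R[X] := Algebra.FiniteType.trans (S := R) inferInstance inferInstance
    haveI : Algebra.FiniteType S R[X][Y] := Algebra.FiniteType.trans (S := R[X]) inferInstance inferInstance
    show (ev (S := S) R x θ).range.FG
    rw [← Algebra.map_top]
    exact Subalgebra.FG.map _ Algebra.FiniteType.out
  have hmemB : ∀ c ∈ R, algebraMap M L c ∈ B := fun c hc => ⟨C (C ⟨c, hc⟩), by simp [ev]⟩
  have hxB : x ∈ B := ⟨C X, by simp [ev]⟩
  have hθB : θ ∈ B := ⟨Y, by simp [ev]⟩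
  have hB' : Gen B := fun z => by
    have hz : z ∈ IntermediateField.adjoin M ({x, θ} : Set L) := hgen ▸ IntermediateField.mem_top
    induction hz using IntermediateField.adjoin_induction with
    | mem w hw =>
      refine ⟨w, ?_, 1, one_mem B, one_ne_zero, (div_one w).symm⟩
      rcases hw with rfl | rfl
      exacts [hxB, hθB]
    | algebraMap c =>
      obtain ⟨a, ha, b, hb, hb0, rfl⟩ := hR' c
      exact ⟨_, hmemB a ha, _, hmemB b hb, (_root_.map_ne_zero _).2 hb0, map_div₀ _ _ _⟩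
    | add v w _ _ hv hw =>
      obtain ⟨a, ha, b, hb, hb0, rfl⟩ := hv
      obtain ⟨a', ha', b', hb', hb0', rfl⟩ := hw
      exact ⟨_, add_mem (mul_mem ha hb') (mul_mem hb ha'), _, mul_mem hb hb', mul_ne_zero hb0 hb0',
        div_add_div _ _ hb0 hb0'⟩
    | inv v _ hv =>
      obtain ⟨a, ha, b, hb, hb0, rfl⟩ := hv
      by_cases ha0 : a = 0
      · exact ⟨0, zero_mem B, 1, one_mem B, one_ne_zero, by simp [ha0]⟩
      · exact ⟨b, hb, a, ha, ha0, inv_div a b⟩
    | mul v w _ _ hv hw =>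
      obtain ⟨a, ha, b, hb, hb0, rfl⟩ := hv
      obtain ⟨a', ha', b', hb', hb0', rfl⟩ := hw
      exact ⟨_, mul_mem ha ha', _, mul_mem hb hb', mul_ne_zero hb0 hb0', div_mul_div_comm _ _ _ _⟩
  obtain ⟨g₁, hg₁, g₁0, h₁, ⟨H, rfl⟩, h₁0, heq⟩ := exists_common hA hA' hB hB'
  -- bad points of the base
  obtain ⟨c₁, U₁, V₁, hc₁, hbz₁⟩ := exists_bezout hkR hfRm (by omega) (derivative fR) (by
    rw [hevM, ← derivative_map, hfR]; exact hsep)
  obtain ⟨c₂, U₂, V₂, hc₂, hbz₂⟩ := exists_bezout hkR hfRm (by omega) H h₁0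
  letI : Algebra R (AlgebraicClosure M) := ((algebraMap M (AlgebraicClosure M)).comp jR).toAlgebra
  obtain ⟨g₀, hg₀, hirr⟩ := GeomIrr6.exists_irreducible_near (T := R) (Ω := AlgebraicClosure M)
    ((algebraMap M (AlgebraicClosure M)).injective.comp hjR) (equivMvPolynomial R fR) (by
      rw [RingHom.algebraMap_toAlgebra, ← MvPolynomial.map_map, map_equivMv jR, hfR]
      exact hgeom)
  obtain ⟨i₁, hi₁⟩ : ∃ i, c₁.coeff i ≠ 0 := by
    by_contra! h; exact hc₁ (Polynomial.ext fun i => by simp [h i])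
  obtain ⟨i₂, hi₂⟩ : ∃ i, c₂.coeff i ≠ 0 := by
    by_contra! h; exact hc₂ (Polynomial.ext fun i => by simp [h i])
  let e₀ : R := g₀ * c₁.coeff i₁ * c₂.coeff i₂
  have he₀ : (e₀ : M) ≠ 0 := fun h =>
    mul_ne_zero (mul_ne_zero hg₀ hi₁) hi₂ (Subtype.ext h)
  obtain ⟨g₂, hg₂, g₂0, hest⟩ := IH _ (fg_inv' hR e₀) (hR'.mono (le_inv' _ _))
  obtain ⟨eM, heM, heM0, heq'⟩ := exists_inv'_inv' e₀.2 he₀ hg₂ g₂0
  rw [heq'] at hest
  obtain ⟨s, hs, C₀, hC₀⟩ := hest
  -- `eM` kills the bad points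
  let e : R := ⟨eM, heM⟩
  have he₀v : ∀ {F : Type u} [Field F] [Algebra S F] (v : R →ₐ[S] F), v e ≠ 0 → v e₀ ≠ 0 := by
    intro F _ _ v hv hv0
    obtain ⟨χ, hχ⟩ := (bijective_restrict (F := F) heM heM0).2 ⟨v, hv⟩
    have h1 : (e₀ : M)⁻¹ ∈ inv' R eM := heq' ▸ le_inv' _ _ (inv_mem_inv' R e₀)
    have h2 := congrArg χ (show (⟨e₀, le_inv' R eM e₀.2⟩ : inv' R eM) * ⟨_, h1⟩ = 1 from
      Subtype.ext (mul_inv_cancel₀ he₀))
    have h3 : χ ⟨e₀, le_inv' R eM e₀.2⟩ = v e₀ :=
      DFunLike.congr_fun (congrArg Subtype.val hχ) e₀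
    rw [map_mul, map_one, h3, hv0, zero_mul] at h2
    exact zero_ne_one h2
  have heL : algebraMap M L eM ∈ inv' A g₁ := heq ▸ le_inv' _ _ (hmemB _ heM)
  obtain ⟨g, hg, hg0, heqA⟩ := exists_inv'_inv' hg₁ g₁0 heL ((_root_.map_ne_zero _).2 heM0)
  refine ⟨g, hg, hg0, ?_⟩
  rw [← heqA, heq]
  show Est (r + 1) (inv' (inv' B (ev (S := S) R x θ H)) (algebraMap M L eM))
  rw [inv'_inv' (B := B) (h := ev (S := S) R x θ H) ⟨H, rfl⟩ h₁0 (hmemB _ heM) ((_root_.map_ne_zero _).2 heM0)]
  set G : R[X][Y] := H * C (C e) with hG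
  have hevG : ev (S := S) R x θ G = ev (S := S) R x θ H * algebraMap M L eM := by
    rw [hG, map_mul]; congr 1; simp [ev, e]
  change Est (r + 1) (inv' B (ev (S := S) R x θ H * algebraMap M L eM))
  rw [← hevG]
  have hG0 : ev (S := S) R x θ G ≠ 0 := by rw [hevG]; exact mul_ne_zero h₁0 ((_root_.map_ne_zero _).2 heM0)
  obtain ⟨D, hD⟩ : ∃ D, (∀ j, (fR.coeff j).natDegree ≤ D) ∧ c₁.natDegree ≤ D ∧ c₂.natDegree ≤ D := by
    refine ⟨max (fR.support.sup fun j => (fR.coeff j).natDegree) (max c₁.natDegree c₂.natDegree), fun j => ?_,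
      le_trans (le_max_left _ _) (le_max_right _ _), le_trans (le_max_right _ _) (le_max_right _ _)⟩
    by_cases hj : fR.coeff j = 0
    · simp [hj]
    · exact le_trans (Finset.le_sup (f := fun j => (fR.coeff j).natDegree) (mem_support_iff.2 hj)) (le_max_left _ _)
  set n := f.natDegree
  let K : ℝ := (((2 * D + 1) * n + 1 + 2 * (n * D * n) : ℕ) : ℝ) + ((D * n : ℕ) : ℝ)
  refine ⟨s, hs, K * (1 + |C₀|) + |C₀|, fun F _ _ _ hsF => ?_⟩
  have hv0 : 0 ≤ K := by positivity
  haveI : Finite (R →ₐ[S] F) := finite_algHom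
  letI : Fintype (R →ₐ[S] F) := Fintype.ofFinite _
  have hcount : Nat.card (inv' B (ev (S := S) R x θ G) →ₐ[S] F) =
      ∑ v : R →ₐ[S] F, Nat.card {p : F × F //
        (fR.map (mapRingHom (v : R →+* F))).evalEval p.1 p.2 = 0 ∧
        (G.map (mapRingHom (v : R →+* F))).evalEval p.1 p.2 ≠ 0} :=
    (Nat.card_congr (Equiv.ofBijective _ (bijective_restrict (B := B) (F := F) (h := ev (S := S) R x θ G) ⟨G, rfl⟩ hG0))).trans
      (card_hom_model hkR G)
  set q : ℝ := (Nat.card F : ℝ) with hq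
  have hq1 : 1 ≤ q := Nat.one_le_cast.2 Nat.card_pos
  have hsq : 1 ≤ Real.sqrt q := Real.one_le_sqrt.2 hq1
  have hfib : ∀ v : R →ₐ[S] F, v e ≠ 0 →
      |(Nat.card {p : F × F // (fR.map (mapRingHom (v : R →+* F))).evalEval p.1 p.2 = 0 ∧
          (G.map (mapRingHom (v : R →+* F))).evalEval p.1 p.2 ≠ 0} : ℝ) - q| ≤ K * Real.sqrt q := by
    intro v hv
    have hv' := he₀v v hv
    rw [map_mul, map_mul, mul_ne_zero_iff, mul_ne_zero_iff] at hv'
    set φ : R →+* F := (v : R →+* F)
    set fv := fR.map (mapRingHom φ) with hfv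
    have hcv : ∀ (c : R[X]) (i : ℕ), v (c.coeff i) ≠ 0 → c.map φ ≠ 0 := fun c i hi h => hi (by
      have := congrArg (fun p : F[X] => p.coeff i) h
      simpa [coeff_map, φ] using this)
    have hnv : fv.natDegree = n := by rw [hfv, hfRm.natDegree_map, hnR]
    have hgeo : Irreducible (MvPolynomial.map (algebraMap F (AlgebraicClosure F)) (equivMvPolynomial F fv)) := by
      letI : Algebra R (AlgebraicClosure F) := ((algebraMap F (AlgebraicClosure F)).comp φ).toAlgebra
      have h := hirr (AlgebraicClosure F) (by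
        rw [RingHom.algebraMap_toAlgebra]
        exact (_root_.map_ne_zero (algebraMap F (AlgebraicClosure F))).2 hv'.1.1)
      rwa [RingHom.algebraMap_toAlgebra, ← MvPolynomial.map_map, map_equivMv φ] at h
    have hbz : (U₁.map (mapRingHom φ)) * fv + (V₁.map (mapRingHom φ)) * derivative fv = C (c₁.map φ) := by
      rw [hfv, derivative_map, ← Polynomial.map_mul, ← Polynomial.map_mul, ← Polynomial.map_add, hbz₁,
        Polynomial.map_C, coe_mapRingHom]
    have h1 := abs_card_points_sub_le fv hgeo (by omega) (D := D) (le_natDegree_map φ fR D hD.1)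
      (c₁.map φ) (hcv c₁ i₁ hv'.1.2) (natDegree_map_le.trans hD.2.1) _ _ hbz
    rw [hnv] at h1
    -- the points removed
    let Z : Finset (Σ _ : F, F) := (c₂.map φ).roots.toFinset.sigma fun a => (fib fv a).roots.toFinset
    have hZ : Nat.card {p : F × F // fv.evalEval p.1 p.2 = 0 ∧ ¬ (G.map (mapRingHom φ)).evalEval p.1 p.2 ≠ 0} ≤ D * n := by
      have hfm : fv.Monic := hfRm.map _
      have hz : ∀ a : F, fib fv a ≠ 0 := fun a => (hfm.map _).ne_zero
      have hmem : ∀ p : F × F, fv.evalEval p.1 p.2 = 0 ∧ ¬ (G.map (mapRingHom φ)).evalEval p.1 p.2 ≠ 0 →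
          (⟨p.1, p.2⟩ : Σ _ : F, F) ∈ Z := by
        rintro ⟨a, b⟩ ⟨hf0, hG0'⟩
        rw [not_not] at hG0'
        simp only [Z, Finset.mem_sigma, Multiset.mem_toFinset, mem_roots (hcv c₂ i₂ hv'.2), mem_roots (hz _),
          IsRoot.def, eval_fib]
        refine ⟨?_, hf0⟩
        rw [hG, Polynomial.map_mul, evalEval_mul, mul_eq_zero] at hG0'
        have hH : (H.map (mapRingHom φ)).evalEval a b = 0 := hG0'.resolve_right (by simpa [φ] using hv)
        have h2 := congrArg (fun P : R[X][Y] => (P.map (mapRingHom φ)).evalEval a b) hbz₂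
        simp only [Polynomial.map_add, Polynomial.map_mul, evalEval_add, evalEval_mul, hH] at h2
        rw [show (fR.map (mapRingHom φ)).evalEval a b = 0 from hf0, mul_zero, mul_zero, add_zero, Polynomial.map_C] at h2
        simpa [evalEval_C] using h2.symm
      refine (Nat.card_le_card_of_injective
        (fun p : {p : F × F // fv.evalEval p.1 p.2 = 0 ∧ ¬ (G.map (mapRingHom φ)).evalEval p.1 p.2 ≠ 0} =>
          (⟨_, hmem _ p.2⟩ : Z)) fun p p' h => ?_).trans ?_
      · simpa [Subtype.ext_iff, Prod.ext_iff] using h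
      · rw [Nat.card_eq_finsetCard, Finset.card_sigma]
        refine (Finset.sum_le_card_nsmul _ _ n fun a _ => ?_).trans ?_
        · exact (Multiset.toFinset_card_le _).trans ((card_roots' _).trans ((natDegree_fib_le fv a).trans hnv.le))
        · rw [smul_eq_mul]
          exact Nat.mul_le_mul_right n ((Multiset.toFinset_card_le _).trans
            ((card_roots' _).trans (natDegree_map_le.trans hD.2.2)))
    have hsplit : Nat.card {p : F × F // fv.evalEval p.1 p.2 = 0} =
        Nat.card {p : F × F // fv.evalEval p.1 p.2 = 0 ∧ (G.map (mapRingHom φ)).evalEval p.1 p.2 ≠ 0} +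
        Nat.card {p : F × F // fv.evalEval p.1 p.2 = 0 ∧ ¬ (G.map (mapRingHom φ)).evalEval p.1 p.2 ≠ 0} := by
      rw [← Nat.card_sum]
      exact Nat.card_congr ((Equiv.sumCompl fun p : {p : F × F // fv.evalEval p.1 p.2 = 0} =>
        (G.map (mapRingHom φ)).evalEval p.1.1 p.1.2 ≠ 0).symm.trans (Equiv.sumCongr
          (Equiv.subtypeSubtypeEquivSubtypeInter (fun p : F × F => fv.evalEval p.1 p.2 = 0)
            (fun p => (G.map (mapRingHom φ)).evalEval p.1 p.2 ≠ 0))
          (Equiv.subtypeSubtypeEquivSubtypeInter (fun p : F × F => fv.evalEval p.1 p.2 = 0)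
            (fun p => ¬ (G.map (mapRingHom φ)).evalEval p.1 p.2 ≠ 0))))
    rw [hsplit] at h1
    push_cast at h1
    have hZ' : (Nat.card {p : F × F // fv.evalEval p.1 p.2 = 0 ∧ ¬ (G.map (mapRingHom φ)).evalEval p.1 p.2 ≠ 0} : ℝ) ≤
        ((D * n : ℕ) : ℝ) := by exact_mod_cast hZ
    have h0 := Nat.cast_nonneg (α := ℝ)
      (Nat.card {p : F × F // fv.evalEval p.1 p.2 = 0 ∧ ¬ (G.map (mapRingHom φ)).evalEval p.1 p.2 ≠ 0})
    simp only [K]
    push_cast at hZ' ⊢
    rw [abs_le] at h1 ⊢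
    have hDn : 0 ≤ (D : ℝ) * n := by positivity
    constructor <;> nlinarith [h1.1, h1.2, mul_le_mul_of_nonneg_left hsq hDn]
  have hzero : ∀ v : R →ₐ[S] F, v e = 0 → Nat.card {p : F × F //
      (fR.map (mapRingHom (v : R →+* F))).evalEval p.1 p.2 = 0 ∧
      (G.map (mapRingHom (v : R →+* F))).evalEval p.1 p.2 ≠ 0} = 0 := fun v hv => by
    haveI : IsEmpty {p : F × F // (fR.map (mapRingHom (v : R →+* F))).evalEval p.1 p.2 = 0 ∧
      (G.map (mapRingHom (v : R →+* F))).evalEval p.1 p.2 ≠ 0} := ⟨fun p => p.2.2 (by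
        simp [hG, Polynomial.map_mul, evalEval_mul, hv])⟩
    exact Nat.card_of_isEmpty
  let T : Finset (R →ₐ[S] F) := Finset.univ.filter fun v => v e ≠ 0
  have hT : Nat.card (inv' R eM →ₐ[S] F) = T.card := by
    rw [Nat.card_congr (Equiv.ofBijective _ (bijective_restrict (B := R) (F := F) heM heM0)),
      ← Nat.card_eq_finsetCard]
    exact Nat.card_congr (Equiv.subtypeEquivRight fun v => by simp [T, e])
  have hbase := hC₀ F hsF
  rw [hT] at hbase
  rw [hcount, ← Finset.sum_subset (Finset.subset_univ T) fun v _ hv => hzero v (by simpa [T] using hv)]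
  push_cast
  set N : (R →ₐ[S] F) → ℝ := fun v => (Nat.card {p : F × F //
        (fR.map (mapRingHom (v : R →+* F))).evalEval p.1 p.2 = 0 ∧
        (G.map (mapRingHom (v : R →+* F))).evalEval p.1 p.2 ≠ 0} : ℝ)
  show |∑ v ∈ T, N v - q ^ (r + 1)| ≤ _
  have h2 : |∑ v ∈ T, N v - (T.card : ℝ) * q| ≤ (T.card : ℝ) * (K * Real.sqrt q) := by
    rw [show (T.card : ℝ) * q = ∑ v ∈ T, q by rw [Finset.sum_const, nsmul_eq_mul], ← Finset.sum_sub_distrib]
    refine (Finset.abs_sum_le_sum_abs _ _).trans ((Finset.sum_le_card_nsmul _ _ _ fun v hv => hfib v ?_).trans ?_)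
    · exact (Finset.mem_filter.1 hv).2
    · rw [nsmul_eq_mul]
  have hsq0 : 0 < Real.sqrt q := lt_of_lt_of_le one_pos hsq
  have hss : Real.sqrt q * Real.sqrt q = q := Real.mul_self_sqrt (by linarith)
  have hqr : 0 ≤ q ^ r := by positivity
  have hdiv : q ^ r / Real.sqrt q ≤ q ^ r := div_le_self hqr hsq
  have hTc : (T.card : ℝ) ≤ q ^ r * (1 + |C₀|) := by
    have := (abs_le.1 hbase).2
    have h4 : C₀ * (q ^ r / Real.sqrt q) ≤ |C₀| * q ^ r :=
      mul_le_mul (le_abs_self _) hdiv (by positivity) (abs_nonneg _)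
    nlinarith
  have h5 : |(T.card : ℝ) * q - q ^ (r + 1)| ≤ |C₀| * (q ^ (r + 1) / Real.sqrt q) := by
    rw [pow_succ, ← sub_mul, abs_mul, abs_of_nonneg (show 0 ≤ q by linarith), mul_div_right_comm, ← mul_assoc]
    refine mul_le_mul_of_nonneg_right (hbase.trans ?_) (by linarith)
    exact mul_le_mul_of_nonneg_right (le_abs_self _) (by positivity)
  have h6 : q ^ r * Real.sqrt q = q ^ (r + 1) / Real.sqrt q := by
    rw [eq_div_iff hsq0.ne', mul_assoc, hss, pow_succ]
  calc |∑ v ∈ T, N v - q ^ (r + 1)| ≤ |∑ v ∈ T, N v - (T.card : ℝ) * q| + |(T.card : ℝ) * q - q ^ (r + 1)| :=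
        abs_sub_le _ _ _
    _ ≤ q ^ r * (1 + |C₀|) * (K * Real.sqrt q) + |C₀| * (q ^ (r + 1) / Real.sqrt q) := by
        refine add_le_add (h2.trans (mul_le_mul_of_nonneg_right hTc (by positivity))) h5
    _ = _ := by rw [← h6]; ring

end GrothLib.LangWeil28
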